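import Cfsg.Agent.H4.Lf
import Cfsg.Agent.Lib.GenFitting

/-!
# Transport of `ℒ(G, T)` and `ℒ_f(G, T)` along isomorphisms (helper4)

* `map_mem_calL`, `map_mem_calLMax`, `map_mem_calLf`, `map_mem_calLfMax`;
* `mapSylow e T`: the Sylow subgroup `T.map e`;
* `NoLf G`: `ℒ_f(G, T) = ∅` for all Sylow 2-subgroups `T`; `NoLf.congr`; `NoLf.of_one`: one Sylow subgroup suffices;
* `all_of_one`: for an isomorphism-invariant property of `L`.
-/

set_option autoImplicit false

namespace Cfsg.Agent.H4.LfTrans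

open Subgroup Cfsg.Agent.QTNorm Cfsg.Agent.H4.Lf
open scoped commutatorElement

universe u v

variable {G : Type u} [Group G] {K : Type v} [Group K]

/-- the restriction of an isomorphism to a subgroup -/
def sm (e : G ≃* K) (H : Subgroup G) : ↥H ≃* ↥(H.map e.toMonoidHom) := e.subgroupMap H

theorem coe_sm (e : G ≃* K) (H : Subgroup G) (x : ↥H) : ((sm e H x : ↥(H.map e.toMonoidHom)) : K) = e x := rfl

theorem map_subgroupMap (e : G ≃* K) {A H : Subgroup G} (hAH : A ≤ H) :
    (A.subgroupOf H).map (sm e H).toMonoidHom = (A.map e.toMonoidHom).subgroupOf (H.map e.toMonoidHom) := by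
  ext ⟨y, hy⟩
  constructor
  · rintro ⟨⟨x, hx⟩, hxA, h1⟩
    have h2 : e x = y := congrArg Subtype.val h1
    exact ⟨x, hxA, h2⟩
  · rintro ⟨x, hx, h1⟩
    exact ⟨⟨x, hAH hx⟩, hx, Subtype.ext h1⟩

/-- the image of a member of `ℒ(G, T)` -/
theorem map_mem_calL [Finite G] (e : G ≃* K) {T L : Subgroup G} (h : L ∈ calL T) :
    L.map e.toMonoidHom ∈ calL (T.map e.toMonoidHom) := by
  have : Finite K := Finite.of_equiv G e.toEquiv
  have key : ∀ H' : Subgroup K, H' = (L ⊔ T).map e.toMonoidHom →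
      ((L.map e.toMonoidHom).subgroupOf H' ∈ calC ↥H' ∧
        (∃ P : Sylow 2 ↥H', (P : Subgroup ↥H') = (T.map e.toMonoidHom).subgroupOf H') ∧ pCore 2 ↥H' ≠ ⊥) := by
    rintro _ rfl
    refine ⟨?_, ?_, ?_⟩
    · rw [← map_subgroupMap e le_sup_left]
      exact Cfsg.Agent.QTUniq.Over.map_mem_calC (sm e (L ⊔ T)) h.1
    · obtain ⟨P, hP⟩ := h.2.1
      have hsur : Function.Surjective (sm e (L ⊔ T)).toMonoidHom := (sm e (L ⊔ T)).surjective
      refine ⟨P.mapSurjective hsur, ?_⟩
      rw [← map_subgroupMap e le_sup_right, ← hP]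
      exact Sylow.coe_mapSurjective hsur P
    · intro hb
      apply h.2.2
      rw [← Cfsg.Agent.Lib.Cores.map_equiv_pCore (sm e (L ⊔ T)) 2] at hb
      exact (Subgroup.map_eq_bot_iff_of_injective _ (sm e (L ⊔ T)).injective).1 hb
  exact key _ (Subgroup.map_sup L T e.toMonoidHom).symm

theorem map_mem_calL_iff [Finite G] (e : G ≃* K) {T L : Subgroup G} :
    L.map e.toMonoidHom ∈ calL (T.map e.toMonoidHom) ↔ L ∈ calL T := by
  have : Finite K := Finite.of_equiv G e.toEquiv
  refine ⟨fun h => ?_, map_mem_calL e⟩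
  have h1 := map_mem_calL e.symm h
  rwa [map_symm_map, map_symm_map] at h1

theorem map_mem_calLMax [Finite G] (e : G ≃* K) {T L : Subgroup G} (h : L ∈ calLMax T) :
    L.map e.toMonoidHom ∈ calLMax (T.map e.toMonoidHom) := by
  have : Finite K := Finite.of_equiv G e.toEquiv
  refine ⟨map_mem_calL e h.1, fun M hM hLM => ?_⟩
  have h1 : M.map e.symm.toMonoidHom ∈ calL T := by
    have h2 := map_mem_calL e.symm hM
    rwa [map_symm_map] at h2
  have h3 := h.2 _ h1 (by
    have h4 := Subgroup.map_mono (f := e.symm.toMonoidHom) hLM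
    rwa [map_symm_map] at h4)
  rw [← h3, map_map_symm]

theorem map_oddGenerated (e : G ≃* K) (L : Subgroup G) :
    (oddGenerated L).map e.toMonoidHom = oddGenerated (L.map e.toMonoidHom) := by
  rw [oddGenerated, oddGenerated, MonoidHom.map_closure]
  congr 1
  ext y
  constructor
  · rintro ⟨x, ⟨h1, h2⟩, rfl⟩
    refine ⟨⟨x, h1, rfl⟩, ?_⟩
    have h3 : orderOf (e.toMonoidHom x) = orderOf x := orderOf_injective e.toMonoidHom e.injective x
    rwa [h3]
  · rintro ⟨⟨x, h1, rfl⟩, h2⟩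
    refine ⟨x, ⟨h1, ?_⟩, rfl⟩
    have h3 : orderOf (e.toMonoidHom x) = orderOf x := orderOf_injective e.toMonoidHom e.injective x
    rwa [h3] at h2

theorem map_pCoreTwoOf (e : G ≃* K) (L : Subgroup G) :
    (pCoreTwoOf L).map e.toMonoidHom = pCoreTwoOf (L.map e.toMonoidHom) := by
  rw [pCoreTwoOf, pCoreTwoOf, ← Cfsg.Agent.Lib.Cores.map_equiv_pCore (sm e L) 2, Subgroup.map_map,
    Subgroup.map_map]
  rfl

theorem map_centralizer (e : G ≃* K) (L : Subgroup G) :
    (centralizer (L : Set G)).map e.toMonoidHom = centralizer ((L.map e.toMonoidHom : Subgroup K) : Set K) := by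
  ext y
  constructor
  · rintro ⟨x, hx, rfl⟩
    rw [mem_centralizer_iff]
    rintro _ ⟨z, hz, rfl⟩
    rw [← map_mul, ← map_mul, mem_centralizer_iff.1 hx z hz]
  · intro hy
    refine ⟨e.symm y, ?_, by simp⟩
    rw [SetLike.mem_coe, mem_centralizer_iff]
    intro z hz
    apply e.injective
    have h1 := mem_centralizer_iff.1 hy (e z) ⟨z, hz, rfl⟩
    simpa using h1

theorem map_omegaOne (e : G ≃* K) (p : ℕ) (L : Subgroup G) :
    (omegaOne p L).map e.toMonoidHom = omegaOne p (L.map e.toMonoidHom) := by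
  rw [omegaOne, omegaOne, MonoidHom.map_closure]
  congr 1
  ext y
  constructor
  · rintro ⟨x, ⟨h1, h2⟩, rfl⟩
    exact ⟨⟨x, h1, rfl⟩, by rw [← map_pow, h2, map_one]⟩
  · rintro ⟨⟨x, h1, rfl⟩, h2⟩
    refine ⟨x, ⟨h1, ?_⟩, rfl⟩
    apply e.injective
    rw [map_pow, map_one]
    exact h2

theorem map_moduleV (e : G ≃* K) (L : Subgroup G) :
    (moduleV L).map e.toMonoidHom = moduleV (L.map e.toMonoidHom) := by
  rw [moduleV, moduleV, Subgroup.map_commutator, map_omegaOne, Subgroup.map_inf_eq _ _ _ e.injective,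
    map_centralizer, map_pCoreTwoOf]

theorem map_mem_calXf (e : G ≃* K) {L : Subgroup G} (h : L ∈ calXf G) : L.map e.toMonoidHom ∈ calXf K := by
  refine ⟨⟨?_, ?_, ?_⟩, ?_⟩
  · intro hb
    exact h.1.1 ((Subgroup.map_eq_bot_iff_of_injective _ e.injective).1 hb)
  · rw [← map_oddGenerated, h.1.2.1]
  · have h1 : generalizedFittingSubgroup ↥L = pCore 2 ↥L := h.1.2.2
    have h2 := Cfsg.Agent.Lib.GenFitting.map_genFitting (sm e L)
    have h3 := Cfsg.Agent.Lib.Cores.map_equiv_pCore (sm e L) 2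
    show generalizedFittingSubgroup ↥(L.map e.toMonoidHom) = pCore 2 ↥(L.map e.toMonoidHom)
    rw [h1] at h2
    exact h2.symm.trans h3
  · rw [← map_moduleV]
    intro hb
    exact h.2 ((Subgroup.map_eq_bot_iff_of_injective _ e.injective).1 hb)

theorem map_mem_calLf [Finite G] (e : G ≃* K) {T L : Subgroup G} (h : L ∈ calLf T) :
    L.map e.toMonoidHom ∈ calLf (T.map e.toMonoidHom) :=
  ⟨map_mem_calL e h.1, map_mem_calXf e h.2⟩

theorem map_mem_calLf_iff [Finite G] (e : G ≃* K) {T L : Subgroup G} :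
    L.map e.toMonoidHom ∈ calLf (T.map e.toMonoidHom) ↔ L ∈ calLf T := by
  have : Finite K := Finite.of_equiv G e.toEquiv
  refine ⟨fun h => ?_, map_mem_calLf e⟩
  have h1 := map_mem_calLf e.symm h
  rwa [map_symm_map, map_symm_map] at h1

theorem map_mem_calLfMax [Finite G] (e : G ≃* K) {T L : Subgroup G} (h : L ∈ calLfMax T) :
    L.map e.toMonoidHom ∈ calLfMax (T.map e.toMonoidHom) :=
  ⟨map_mem_calLMax e h.1, map_mem_calXf e h.2⟩

theorem map_mem_calLfMax_iff [Finite G] (e : G ≃* K) {T L : Subgroup G} :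
    L.map e.toMonoidHom ∈ calLfMax (T.map e.toMonoidHom) ↔ L ∈ calLfMax T := by
  have : Finite K := Finite.of_equiv G e.toEquiv
  refine ⟨fun h => ?_, map_mem_calLfMax e⟩
  have h1 := map_mem_calLfMax e.symm h
  rwa [map_symm_map, map_symm_map] at h1

/-! ### Sylow subgroups -/

/-- the image of a Sylow 2-subgroup -/
noncomputable def mapSylow [Finite G] (e : G ≃* K) (T : Sylow 2 G) : Sylow 2 K :=
  haveI : Finite K := Finite.of_equiv G e.toEquiv
  T.mapSurjective (f := e.toMonoidHom) e.surjective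

theorem coe_mapSylow [Finite G] (e : G ≃* K) (T : Sylow 2 G) :
    (mapSylow e T : Subgroup K) = (T : Subgroup G).map e.toMonoidHom := by
  have : Finite K := Finite.of_equiv G e.toEquiv
  exact Sylow.coe_mapSurjective _ _

/-- **Transport**: `L ∈ ℒ_f(G, T)` and `G ≃* K` give `L' ∈ ℒ_f(K, T')` with `L ≃* L'`. -/
theorem exists_transport [Finite G] (e : G ≃* K) (T : Sylow 2 G) {L : Subgroup G}
    (hL : L ∈ calLf (T : Subgroup G)) :
    ∃ (T' : Sylow 2 K) (L' : Subgroup K), (T' : Subgroup K) = (T : Subgroup G).map e.toMonoidHom ∧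
      L' = L.map e.toMonoidHom ∧ L' ∈ calLf (T' : Subgroup K) ∧ Nonempty (↥L ≃* ↥L') := by
  refine ⟨mapSylow e T, L.map e.toMonoidHom, coe_mapSylow e T, rfl, ?_, ⟨sm e L⟩⟩
  rw [coe_mapSylow]
  exact map_mem_calLf e hL

theorem exists_conj [Finite G] (T T' : Sylow 2 G) :
    ∃ g : G, (T' : Subgroup G) = (T : Subgroup G).map (MulAut.conj g).toMonoidHom := by
  have : Fact (Nat.Prime 2) := ⟨Nat.prime_two⟩
  obtain ⟨g, rfl⟩ := MulAction.exists_smul_eq G T T'
  refine ⟨g, ?_⟩
  rw [Sylow.coe_subgroup_smul]; rfl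

/-- **One Sylow subgroup suffices** for a property `P` of `L` which is invariant under isomorphisms. -/
theorem all_of_one [Finite G] (P : Subgroup G → Prop)
    (hP : ∀ (g : G) (L : Subgroup G), P L → P (L.map (MulAut.conj g).toMonoidHom)) (T₀ : Sylow 2 G)
    (h : ∀ L ∈ calLf (T₀ : Subgroup G), P L) (T : Sylow 2 G) : ∀ L' ∈ calLf (T : Subgroup G), P L' := by
  obtain ⟨g, hg⟩ := exists_conj T₀ T
  intro L hL
  have h1 : L = (L.map (MulAut.conj g).symm.toMonoidHom).map (MulAut.conj g).toMonoidHom :=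
    (map_map_symm (MulAut.conj g) L).symm
  have h2 : L.map (MulAut.conj g).symm.toMonoidHom ∈ calLf (T₀ : Subgroup G) := by
    rw [← map_mem_calLf_iff (MulAut.conj g), ← h1, ← hg]
    exact hL
  rw [h1]
  exact hP g _ (h _ h2)

/-- `ℒ_f(G, T)` is empty for all Sylow 2-subgroups `T` -/
def NoLf (G : Type u) [Group G] : Prop := ∀ T : Sylow 2 G, calLf (T : Subgroup G) = ∅

theorem NoLf.congr [Finite G] (e : G ≃* K) (h : NoLf K) : NoLf G := by
  intro T
  rw [Set.eq_empty_iff_forall_notMem]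
  intro L hL
  obtain ⟨T', L', -, -, h1, -⟩ := exists_transport e T hL
  rw [h T'] at h1
  exact h1

theorem NoLf.of_one [Finite G] (T₀ : Sylow 2 G) (h : ∀ L, L ∉ calLf (T₀ : Subgroup G)) : NoLf G := by
  intro T
  rw [Set.eq_empty_iff_forall_notMem]
  exact fun L hL => all_of_one (fun _ => False) (fun _ _ hf => hf) T₀ h T L hL

theorem NoLf.of_forall (h : ∀ (T : Sylow 2 G) (L : Subgroup G), L ∉ calLf (T : Subgroup G)) : NoLf G := fun T =>
  Set.eq_empty_iff_forall_notMem.2 (h T)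

/-! ### quotients by the 2-core under isomorphisms -/

/-- isomorphic groups have isomorphic quotients by `O_2` -/
noncomputable def quotEquiv {X : Type u} {Y : Type v} [Group X] [Group Y] (e : X ≃* Y) :
    (X ⧸ pCore 2 X) ≃* (Y ⧸ pCore 2 Y) :=
  QuotientGroup.congr (pCore 2 X) (pCore 2 Y) e (Cfsg.Agent.Lib.Cores.map_equiv_pCore e 2)

theorem nonempty_quot {X : Type u} {Y : Type v} [Group X] [Group Y] (h : Nonempty (X ≃* Y)) :
    Nonempty ((X ⧸ pCore 2 X) ≃* (Y ⧸ pCore 2 Y)) := h.map quotEquiv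

theorem map_center {X : Type u} {Y : Type v} [Group X] [Group Y] (e : X ≃* Y) :
    (center X).map e.toMonoidHom = center Y := by
  ext y
  constructor
  · rintro ⟨x, hx, rfl⟩
    rw [mem_center_iff]
    intro z
    obtain ⟨w, rfl⟩ := e.surjective z
    show e w * e x = e x * e w
    rw [← map_mul, ← map_mul, mem_center_iff.1 hx w]
  · intro hy
    refine ⟨e.symm y, ?_, by simp⟩
    rw [SetLike.mem_coe, mem_center_iff]
    intro z
    apply e.injective
    simpa using mem_center_iff.1 hy (e z)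

theorem map_twoZCore {X : Type u} {Y : Type v} [Group X] [Group Y] (e : X ≃* Y) :
    (twoZCore X).map e.toMonoidHom = twoZCore Y := by
  have hq : ∀ x : X, quotEquiv e (QuotientGroup.mk' (pCore 2 X) x) = QuotientGroup.mk' (pCore 2 Y) (e x) :=
    fun x => rfl
  have h1 : ∀ x : X, e x ∈ twoZCore Y ↔ x ∈ twoZCore X := by
    intro x
    rw [twoZCore, twoZCore, mem_comap, mem_comap, ← hq, ← map_center (quotEquiv e)]
    constructor
    · rintro ⟨z, hz, h2⟩
      have h3 : z = QuotientGroup.mk' (pCore 2 X) x := (quotEquiv e).injective h2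
      rwa [← h3]
    · intro h2
      exact ⟨_, h2, rfl⟩
  ext y
  constructor
  · rintro ⟨x, hx, rfl⟩
    exact (h1 x).2 hx
  · intro hy
    refine ⟨e.symm y, ?_, by simp⟩
    rw [SetLike.mem_coe, ← h1]
    simpa using hy

/-- isomorphic groups have isomorphic quotients by `O_{2,Z}` -/
noncomputable def quotZEquiv {X : Type u} {Y : Type v} [Group X] [Group Y] (e : X ≃* Y) :
    (X ⧸ twoZCore X) ≃* (Y ⧸ twoZCore Y) :=
  QuotientGroup.congr (twoZCore X) (twoZCore Y) e (map_twoZCore e)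

end Cfsg.Agent.H4.LfTrans
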