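import Cfsg.Agent.H4.LfTrans
import Cfsg.Agent.TitsK.OverK
import Cfsg.Agent.TitsK.Inst
import Cfsg.Agent.TitsK.CentOdd
import Cfsg.Agent.TitsK.Rank
import Cfsg.Agent.GH.C2SevenTop
import Cfsg.Agent.Transfer.TausskyTwoGroup

/-!
# The row of the Tits group: `ℒ(G, T)` is empty (helper4)

The overgroups `R` of a Sylow 2-subgroup with `O₂(R) ≠ 1` are solvable: they stabilise `z` or `V`.
-/

set_option autoImplicit false

namespace Cfsg.Agent.H4.RowTits

open Subgroup Cfsg Cfsg.Agent.TitsK Cfsg.Agent.TitsK.Abs Cfsg.Agent.H4.LfTrans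

universe u v

section abs

variable {G : Type v} [Group G] [Finite G] (D : TData G)

/-- the stabiliser of `V` is solvable -/
theorem solvable_V {R : Subgroup G} (hR : R ≤ D.H) (h4 : Nat.card ↥D.V ≤ 4) (hV : ∀ g ∈ R, ∀ v ∈ D.V, g * v * g⁻¹ ∈ D.V) :
    Group.IsSolvable ↥R := by
  have h2f : Fact (Nat.Prime 2) := ⟨Nat.prime_two⟩
  -- the action on `V`
  let φ : ↥R →* Equiv.Perm ↥D.V :=
    { toFun := fun g =>
        { toFun := fun v => ⟨g * v * (g : G)⁻¹, hV g g.2 v v.2⟩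
          invFun := fun v => ⟨(g : G)⁻¹ * v * g, by
            have h1 := hV _ (inv_mem g.2) v v.2
            rwa [inv_inv] at h1⟩
          left_inv := fun v => Subtype.ext (by
            show (g : G)⁻¹ * (g * v * (g : G)⁻¹) * g = v
            group)
          right_inv := fun v => Subtype.ext (by
            show (g : G) * ((g : G)⁻¹ * v * g) * (g : G)⁻¹ = v
            group) }
      map_one' := by
        ext v
        show (1 : G) * v * (1 : G)⁻¹ = v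
        group
      map_mul' := fun a b => by
        ext v
        show ((a : G) * b) * v * ((a : G) * b)⁻¹ = a * (b * v * (b : G)⁻¹) * (a : G)⁻¹
        group }
  have hker : IsPGroup 2 ↥φ.ker := by
    have h1 : ∀ g ∈ φ.ker, (g : G) ∈ D.U := by
      intro g hg
      have h2 : ∀ v (hv : v ∈ D.V), (g : G) * v * (g : G)⁻¹ = v := fun v hv =>
        congrArg (fun σ : Equiv.Perm ↥D.V => ((σ ⟨v, hv⟩ : ↥D.V) : G)) (MonoidHom.mem_ker.1 hg)
      exact D.cent_V g (hR g.2) (h2 _ D.z_mem_V) (h2 _ D.z1_mem_V)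
    intro g
    obtain ⟨n, hn⟩ := D.isPGroup_U ⟨_, h1 g g.2⟩
    have h3 : ((g : ↥R) : G) ^ 2 ^ n = 1 := congrArg Subtype.val hn
    exact ⟨n, Subtype.ext (Subtype.ext (by
      push_cast
      exact h3))⟩
  obtain ⟨n, hn⟩ := IsPGroup.iff_card.1 hker
  have h1 := φ.ker.card_mul_index
  rw [hn, Subgroup.index_ker] at h1
  have h2 : Nat.card ↥φ.range ∣ 24 := by
    refine (Subgroup.card_subgroup_dvd_card _).trans ?_
    rw [Nat.card_perm]
    exact Nat.factorial_dvd_factorial h4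
  refine Cfsg.Agent.GH.C2SevenTop.solvable_of_dvd (a := n + 3) (b := 1) Nat.prime_two Nat.prime_three ?_
  rw [← h1, pow_add, mul_assoc]
  exact mul_dvd_mul_left _ h2

/-- **`ℒ(T, S)` is empty** -/
theorem noLf (O : Over D) (h4 : Nat.card ↥D.V ≤ 4)
    (hz : ∀ R : Subgroup G, R ≤ D.H → (∀ g ∈ R, g * D.z * g⁻¹ = D.z) → Group.IsSolvable ↥R) : NoLf ↥D.T := by
  have h2f : Fact (Nat.Prime 2) := ⟨Nat.prime_two⟩
  have hS2 : IsPGroup 2 ↥(D.U.subgroupOf D.T) := D.isPGroup_U.comap_of_injective D.T.subtype D.T.subtype_injective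
  have hSi : ¬ 2 ∣ (D.U.subgroupOf D.T).index := by
    have h1 := D.odd_S
    rw [inf_relIndex_right] at h1
    exact h1
  refine NoLf.of_one (hS2.toSylow hSi) fun L hL => ?_
  have hS : ((hS2.toSylow hSi : Sylow 2 ↥D.T) : Subgroup ↥D.T) = D.U.subgroupOf D.T := rfl
  rw [hS] at hL
  set S : Subgroup ↥D.T := D.U.subgroupOf D.T with hSdef
  set H : Subgroup ↥D.T := L ⊔ S with hH
  have hO : pCore 2 ↥H ≠ ⊥ := Lf.oTwo_ne hL.1
  set R : Subgroup G := H.map D.T.subtype with hR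
  have hRH : R ≤ D.H := (map_subtype_le H).trans D.T_le
  have hSR : D.U ⊓ D.T ≤ R := by
    intro x hx
    exact ⟨⟨x, hx.2⟩, (le_sup_right : S ≤ H) (mem_subgroupOf.2 hx.1), rfl⟩
  -- `P = O₂(R)`
  set P : Subgroup ↥D.T := (pCore 2 ↥H).map H.subtype with hP
  have hPS : P ≤ S := by
    have h1 := Cfsg.Agent.QTUniq.Local.map_pCore_le_sylow (hS2.toSylow hSi) (X := H) (le_sup_right : S ≤ H)
    exact h1
  have hPne : P ≠ ⊥ := fun h0 => hO ((Subgroup.map_eq_bot_iff_of_injective _ H.subtype_injective).1 h0)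
  have hPn : ∀ g ∈ H, ∀ p ∈ P, g * p * g⁻¹ ∈ P := by
    rintro g hg _ ⟨p, hp, rfl⟩
    exact ⟨⟨g, hg⟩ * p * ⟨g, hg⟩⁻¹, (Lib.Cores.pCore_normal 2).conj_mem p hp ⟨g, hg⟩, rfl⟩
  -- `z ∈ P`
  have hzT : D.z ∈ D.T := D.V_le_T D.z_mem_V
  have hzP : (⟨D.z, hzT⟩ : ↥D.T) ∈ P := by
    have hn : (P.subgroupOf S).Normal := ⟨fun p hp g => hPn g ((le_sup_right : S ≤ H) g.2) p hp⟩
    have hne : P.subgroupOf S ≠ ⊥ := by
      intro h0
      apply hPne
      have h3 := congrArg (Subgroup.map S.subtype) h0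
      rwa [Subgroup.subgroupOf_map_subtype, inf_eq_left.2 hPS, Subgroup.map_bot] at h3
    obtain ⟨x, hx2, hx3, hx1⟩ := Cfsg.Agent.Transfer.TausskyTwoGroup.exists_ne_one_mem_inf_center hS2
      (P.subgroupOf S) hne
    have hxU : ((x : ↥D.T) : G) ∈ D.U := mem_subgroupOf.1 x.2
    rcases D.cent_S _ hxU (fun c hc => by
      have h4 := mem_center_iff.1 hx3 ⟨⟨c, hc.2⟩, mem_subgroupOf.2 hc.1⟩
      exact (congrArg (fun y : ↥S => ((y : ↥D.T) : G)) h4).symm) with h5 | h5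
    · exact absurd (Subtype.ext (Subtype.ext h5)) hx1
    · have h6 : ((x : ↥D.T)) = ⟨D.z, hzT⟩ := Subtype.ext h5
      rw [← h6]
      exact hx2
  -- the conjugates of `z` are in `Z(P)`
  have hzc : ∀ p ∈ P, (p : G) * D.z = D.z * p := by
    intro p hp
    have h1 := D.z_central p (mem_subgroupOf.1 (hPS hp))
    rwa [mul_inv_eq_iff_eq_mul] at h1
  have hcomm : ∀ x ∈ R, ∀ y ∈ R, x * D.z * x⁻¹ * (y * D.z * y⁻¹) = y * D.z * y⁻¹ * (x * D.z * x⁻¹) := by
    rintro _ ⟨x, hx, rfl⟩ _ ⟨y, hy, rfl⟩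
    -- `x⁻¹ (y z y⁻¹) x ∈ P`
    have h1 : x⁻¹ * (y * ⟨D.z, hzT⟩ * y⁻¹) * x ∈ P := by
      have h2 := hPn _ (inv_mem hx) _ (hPn y hy _ hzP)
      rwa [inv_inv] at h2
    have h2 := hzc _ h1
    have h3 : (x : G)⁻¹ * (y * D.z * (y : G)⁻¹) * x * D.z = D.z * ((x : G)⁻¹ * (y * D.z * (y : G)⁻¹) * x) := h2
    show (x : G) * D.z * (x : G)⁻¹ * (y * D.z * (y : G)⁻¹) = y * D.z * (y : G)⁻¹ * (x * D.z * (x : G)⁻¹)
    calc (x : G) * D.z * (x : G)⁻¹ * (y * D.z * (y : G)⁻¹)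
        = x * (D.z * ((x : G)⁻¹ * (y * D.z * (y : G)⁻¹) * x)) * (x : G)⁻¹ := by group
      _ = x * ((x : G)⁻¹ * (y * D.z * (y : G)⁻¹) * x * D.z) * (x : G)⁻¹ := by rw [h3]
      _ = _ := by group
  have hsol : Group.IsSolvable ↥R := by
    rcases O.ovg R hRH hSR hcomm with h1 | h1
    · exact hz R hRH h1
    · exact solvable_V D hRH h4 h1
  apply Lf.not_solvable hL.1
  have hLR : L.map D.T.subtype ≤ R := map_mono le_sup_left
  have h1 : Group.IsSolvable ↥(L.map D.T.subtype) :=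
    Group.isSolvable_of_isSolvable_injective (f := Subgroup.inclusion hLR) (Subgroup.inclusion_injective hLR)
  exact Group.isSolvable_of_isSolvable_injective (f := (L.equivMapOfInjective _ D.T.subtype_injective).toMonoidHom)
    (L.equivMapOfInjective _ D.T.subtype_injective).injective

end abs

section conc

open Cfsg.Agent.ChevalleyStructure.TwF4.Tables
open Cfsg.Agent.FourTwo.Base hiding bar bar_lt
open Cfsg.Agent.FourTwo.BN Cfsg.Agent.FourTwo.Comm Cfsg.Agent.FourTwo.Classes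

/-- the centraliser of `z` is solvable -/
theorem solvable_z {R : Subgroup LL} (hR : R ≤ HT) (hz : ∀ g ∈ R, g * z * g⁻¹ = z) : Group.IsSolvable ↥R := by
  have h2f : Fact (Nat.Prime 2) := ⟨Nat.prime_two⟩
  have hfin : Finite LL := inferInstance
  have hRP : R ≤ Pz := fun g hg => mem_Pz.2 ⟨hR hg, hz g hg⟩
  have h1 : E8.relIndex Pz ∣ 4 := relIndex_dvd_of_mulSub yb_norm_E8 yb_mem_Pz (fun _ hb _ hq => Pz_conj_E8 hb hq)
    yb_pow4_mem_E8 Pz_le
  have h2 : Q8.relIndex E8 ∣ 5 := relIndex_dvd_of_mulSub (norm_Q8 xf_mem_Pz) xf_mem_E8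
    (fun b hb q hq => Pz_conj_Q8 (E8_le_Pz hb) hq) (by rw [xf_pow5]; exact Q8.one_mem) le_rfl
  have hQ : IsPGroup 2 ↥Q8 := isPGroup_UT.to_le Q8_le
  obtain ⟨n, hn⟩ := IsPGroup.iff_card.1 hQ
  have h3 : Q8.relIndex Pz ∣ 5 * 4 := by
    rw [← Subgroup.relIndex_mul_relIndex Q8 E8 Pz Q8_le_E8 E8_le_Pz]
    exact mul_dvd_mul h2 h1
  have h4 := (Q8.subgroupOf Pz).card_mul_index
  rw [Nat.card_congr (subgroupOfEquivOfLe Q8_le_Pz).toEquiv, hn] at h4
  have h5 : Group.IsSolvable ↥Pz := by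
    refine Cfsg.Agent.GH.C2SevenTop.solvable_of_dvd (a := n + 2) (b := 1) (p := 2) (q := 5) Nat.prime_two
      (by norm_num) ?_
    rw [← h4, pow_add, mul_assoc]
    exact mul_dvd_mul_left _ (h3.trans (by norm_num))
  exact Group.isSolvable_of_isSolvable_injective (f := Subgroup.inclusion hRP) (Subgroup.inclusion_injective hRP)

/-- transport in abstract form -/
theorem noLf_of_data {X : Type u} [Group X] [Finite X] {G : Type v} [Group G] [Finite G] (D : TData G) (O : Over D)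
    (e : Nonempty (X ≃* ↥D.T)) (h4 : Nat.card ↥D.V ≤ 4)
    (hz : ∀ R : Subgroup G, R ≤ D.H → (∀ g ∈ R, g * D.z * g⁻¹ = D.z) → Group.IsSolvable ↥R) : NoLf X := by
  obtain ⟨e⟩ := e
  exact NoLf.congr e (noLf D O h4 hz)

/-- **The Tits group.** -/
theorem tits {X : Type u} [Group X] [Finite X] (h : Lie.IsoTits X) : NoLf X := by
  obtain ⟨e⟩ := h
  obtain ⟨e'⟩ := exists_equiv
  have h4 : Nat.card ↥tdata.V ≤ 4 := (CentOdd.card_four (V := V4) fun _ => mem_V4_iff).2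
  have e₀ : X ≃* ↥(tdata.T) := e.trans e'
  exact noLf_of_data tdata overD ⟨e₀⟩ h4 fun R hR hz => solvable_z hR hz

end conc

end Cfsg.Agent.H4.RowTits
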