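import Cfsg.Prelude.Def_QuasithinSetup
import Cfsg.Agent.QTUniq.Local
import Cfsg.Agent.QTUniq.Over
import Cfsg.Agent.QTNorm.Base
import Cfsg.Agent.Lib.ThompsonPQ
import Cfsg.Agent.PLocal.SubnormalCore
import Cfsg.Agent.S0026

/-!
# Members of `ℒ(G, T)` and `ℒ_f(G, T)`: basics (helper4)

`T` a Sylow 2-subgroup of `G`, `G` of even characteristic, `L ∈ ℒ_f(G, T)`, `H = ⟨L, T⟩`, `R = O_2(H)`.

* `perfect`, `ne_bot`, `subnormal`, `oTwo_ne`, `odd_gen`: the definitions;
* `mem_of_subnormal`: elements of order prime to the index of a subnormal subgroup;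
* `core_le_normalizer`: `O_2(H)` normalizes `L`; `core_le`: `O_2(L) ≤ O_2(H)`; `comm_le`: `[O_2(H), L] ≤ O_2(L)`;
* `exists_module`: `L` acts nontrivially on an elementary abelian normal subgroup `U = Ω₁(Z(O_2(H)))` of `H`, `U ≤ T`.
-/

set_option autoImplicit false

namespace Cfsg.Agent.H4.Lf

open Subgroup Cfsg.Agent.QTUniq.Local
open scoped commutatorElement

universe u v

variable {G : Type u} [Group G]

/-! ### the definitions -/

theorem perfect {T L : Subgroup G} (h : L ∈ calL T) : ⁅L, L⁆ = L :=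
  ((Cfsg.Agent.QTUniq.CComp.mem_calC_iff le_sup_left).1 h.1).2.1

theorem ne_bot {T L : Subgroup G} (h : L ∈ calL T) : L ≠ ⊥ :=
  ((Cfsg.Agent.QTUniq.CComp.mem_calC_iff le_sup_left).1 h.1).1

theorem subnormal {T L : Subgroup G} (h : L ∈ calL T) : (L.subgroupOf (L ⊔ T)).IsSubnormal :=
  h.1.2.2.1

theorem minimal {T L : Subgroup G} (h : L ∈ calL T) {K : Subgroup G} (hK : K < L) (h1 : K ≠ ⊥)
    (h2 : ⁅K, K⁆ = K) (h3 : (K.subgroupOf (L ⊔ T)).IsSubnormal) : False :=
  ((Cfsg.Agent.QTUniq.CComp.mem_calC_iff le_sup_left).1 h.1).2.2.2 K hK ⟨h1, h2, h3⟩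

theorem oTwo_ne {T L : Subgroup G} (h : L ∈ calL T) : pCore 2 ↥(L ⊔ T) ≠ ⊥ := h.2.2

theorem odd_gen {T L : Subgroup G} (h : L ∈ calLf T) : oddGenerated L = L := h.2.1.2.1

theorem not_solvable {T L : Subgroup G} (h : L ∈ calL T) : ¬ Group.IsSolvable ↥L := fun hs =>
  ne_bot h (Cfsg.Agent.TwoFusion.PerfCore.eq_bot_of_perfect_of_solvable (perfect h) hs)

/-- proper normal subgroups of `L ∈ ℒ(G, T)` are solvable -/
theorem solvable_of_normal [Finite G] {T L : Subgroup G} (h : L ∈ calL T) {N : Subgroup G} (hNL : N ≤ L)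
    (hN : L ≤ normalizer (N : Set G)) (hne : N ≠ L) : Group.IsSolvable ↥N := by
  have hLH : L ≤ L ⊔ T := le_sup_left
  have h1 : Group.IsSolvable ↥(N.subgroupOf (L ⊔ T)) := by
    refine Cfsg.Agent.QTUniq.CComp.solvable_of_normal h.1 (Subgroup.comap_mono hNL) ?_ ?_
    · rintro ⟨x, hx⟩ hxL
      have hxL' : x ∈ L := hxL
      rw [mem_normalizer_iff]
      rintro ⟨y, hy⟩
      exact mem_normalizer_iff.1 (hN hxL') y
    · intro he
      apply hne
      have h2 := congrArg (Subgroup.map (L ⊔ T).subtype) he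
      rwa [Subgroup.subgroupOf_map_subtype, Subgroup.subgroupOf_map_subtype, inf_eq_left.2 (hNL.trans hLH),
        inf_eq_left.2 hLH] at h2
  exact Group.isSolvable_of_surjective (f := (Subgroup.subgroupOfEquivOfLe (hNL.trans hLH)).toMonoidHom)
    (Subgroup.subgroupOfEquivOfLe (hNL.trans hLH)).surjective

/-! ### elements of order prime to the index -/

theorem mem_of_subnormal {X : Type*} [Group X] [Finite X] {L : Subgroup X} (hL : L.IsSubnormal) {x : X}
    (hx : (orderOf x).Coprime L.index) : x ∈ L := by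
  induction hL with
  | top => exact mem_top x
  | step H K hle hsn hN ih =>
    have hK : x ∈ K := ih (hx.coprime_dvd_right (Subgroup.index_dvd_of_le hle))
    have h1 : (⟨x, hK⟩ : ↥K) ^ (H.subgroupOf K).index ∈ H.subgroupOf K := Subgroup.pow_index_mem _ _
    have h2 : x ^ H.relIndex K ∈ H := h1
    have h3 : (orderOf x).Coprime (H.relIndex K) :=
      hx.coprime_dvd_right (Subgroup.relIndex_dvd_index_of_le hle)
    have h5 := Nat.gcd_eq_gcd_ab (orderOf x) (H.relIndex K)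
    rw [h3] at h5
    have h6 : x = (x ^ H.relIndex K) ^ (Nat.gcdB (orderOf x) (H.relIndex K)) := by
      calc x = x ^ ((1 : ℕ) : ℤ) := by simp
        _ = _ := by
          rw [h5, zpow_add, zpow_mul, zpow_mul, zpow_natCast, pow_orderOf_eq_one, one_zpow, one_mul, zpow_natCast]
    rw [h6]
    exact Subgroup.zpow_mem _ h2 _

/-- a normal 2-subgroup normalizes each subnormal subgroup generated by elements of odd order -/
theorem le_normalizer_of_odd {X : Type*} [Group X] [Finite X] {L R : Subgroup X} (hL : L.IsSubnormal)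
    (hodd : oddGenerated L = L) (hRn : R.Normal) (hR : IsPGroup 2 ↥R) : R ≤ normalizer (L : Set X) := by
  have : Fact (Nat.Prime 2) := ⟨Nat.prime_two⟩
  have hLs : (L.subgroupOf (L ⊔ R)).IsSubnormal := hL.comap (L ⊔ R).subtype
  have hidx : ∃ k : ℕ, (L.subgroupOf (L ⊔ R)).index ∣ 2 ^ k := by
    obtain ⟨k, hk⟩ := IsPGroup.iff_card.1 hR
    refine ⟨k, ?_⟩
    have h1 : (L.subgroupOf (L ⊔ R)).index = L.relIndex R :=
      Cfsg.Agent.Lib.SylowNormalInf.relIndex_sup_of_normal L R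
    rw [h1, ← hk]
    exact Subgroup.index_dvd_card _
  obtain ⟨k, hk⟩ := hidx
  have key : ∀ r ∈ R, ∀ x ∈ L, r * x * r⁻¹ ∈ L := by
    intro r hr x hx
    have h1 : L.map (MulAut.conj r).toMonoidHom ≤ L := by
      conv_lhs => rw [← hodd]
      rw [oddGenerated, MonoidHom.map_closure, closure_le]
      rintro _ ⟨y, ⟨hy, hyo⟩, rfl⟩
      have h2 : r * y * r⁻¹ ∈ L ⊔ R :=
        mul_mem (mul_mem (mem_sup_right hr) (mem_sup_left hy)) (mem_sup_right (inv_mem hr))
      have h3 : (⟨r * y * r⁻¹, h2⟩ : ↥(L ⊔ R)) ∈ L.subgroupOf (L ⊔ R) := by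
        apply mem_of_subnormal hLs
        have h4 : orderOf (⟨r * y * r⁻¹, h2⟩ : ↥(L ⊔ R)) = orderOf y := by
          rw [← Subgroup.orderOf_coe]
          exact orderOf_injective (MulAut.conj r).toMonoidHom (MulAut.conj r).injective y
        rw [h4]
        exact (Nat.Coprime.pow_right k (Nat.coprime_two_right.2 hyo)).coprime_dvd_right hk
      exact h3
    exact h1 ⟨x, hx, rfl⟩
  intro r hr
  rw [mem_normalizer_iff]
  intro x
  refine ⟨key r hr x, fun h => ?_⟩
  have h1 := key r⁻¹ (inv_mem hr) _ h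
  have e : r⁻¹ * (r * x * r⁻¹) * r⁻¹⁻¹ = x := by group
  rwa [e] at h1

/-! ### `O_2(H)` and `L` -/

/-- `O_2(L) ≤ O_2(H)` for `L` subnormal in `H` -/
theorem core_le {L H : Subgroup G} (hLH : L ≤ H) (hs : (L.subgroupOf H).IsSubnormal) :
    (pCore 2 ↥L).map L.subtype ≤ (pCore 2 ↥H).map H.subtype := by
  set D : Subgroup G := (pCore 2 ↥L).map L.subtype with hD
  have hDL : D ≤ L := map_subtype_le _
  have h1 : D.subgroupOf H ≤ pCore 2 ↥H := by
    refine Cfsg.Agent.PLocal.SubnormalCore.le_pCore_of_normal_subnormal (K := L.subgroupOf H)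
      (Subgroup.comap_mono hDL) ?_ hs ?_
    · refine (normal_subgroupOf_iff_le_normalizer (H := D.subgroupOf H) (K := L.subgroupOf H)
        (Subgroup.comap_mono hDL)).2 ?_
      rintro ⟨x, hx⟩ hxL
      have hxL' : x ∈ L := hxL
      have h2 := le_normalizer_map_pCore 2 L hxL'
      rw [mem_normalizer_iff] at h2 ⊢
      rintro ⟨y, hy⟩
      exact h2 y
    · exact (map_pCore_isPGroup 2 L).comap_of_injective H.subtype H.subtype_injective
  intro x hx
  exact ⟨⟨x, hLH (hDL hx)⟩, h1 hx, rfl⟩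

theorem oddGenerated_subgroupOf {L H : Subgroup G} (hLH : L ≤ H) (h : oddGenerated L = L) :
    oddGenerated (L.subgroupOf H) = L.subgroupOf H := by
  apply Subgroup.map_injective H.subtype_injective
  rw [Subgroup.subgroupOf_map_subtype, inf_eq_left.2 hLH, oddGenerated, MonoidHom.map_closure]
  conv_rhs => rw [← h]
  rw [oddGenerated]
  congr 1
  ext x
  constructor
  · rintro ⟨⟨y, hy⟩, ⟨h1, h2⟩, rfl⟩
    refine ⟨h1, ?_⟩
    rwa [← Subgroup.orderOf_coe] at h2
  · rintro ⟨h1, h2⟩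
    refine ⟨⟨x, hLH h1⟩, ⟨h1, ?_⟩, rfl⟩
    rwa [← Subgroup.orderOf_coe]

/-- `O_2(H)` normalizes `L` -/
theorem core_le_normalizer [Finite G] {L H : Subgroup G} (hLH : L ≤ H) (hs : (L.subgroupOf H).IsSubnormal)
    (hodd : oddGenerated L = L) : (pCore 2 ↥H).map H.subtype ≤ normalizer (L : Set G) := by
  have : Fact (Nat.Prime 2) := ⟨Nat.prime_two⟩
  have h1 := le_normalizer_of_odd hs (oddGenerated_subgroupOf hLH hodd)
    (Cfsg.Agent.Lib.Cores.pCore_normal 2) (Cfsg.Agent.Lib.Cores.pCore_isPGroup 2)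
  rintro _ ⟨⟨r, hrH⟩, hr, rfl⟩
  have h2 := h1 hr
  rw [mem_normalizer_iff] at h2 ⊢
  have key : ∀ x ∈ L, r * x * r⁻¹ ∈ L := fun x hx => (h2 ⟨x, hLH hx⟩).1 hx
  have h3 := h1 (inv_mem hr)
  rw [mem_normalizer_iff] at h3
  have key' : ∀ x ∈ L, r⁻¹ * x * r⁻¹⁻¹ ∈ L := fun x hx => (h3 ⟨x, hLH hx⟩).1 hx
  intro x
  refine ⟨key x, fun h => ?_⟩
  have h' : r * x * r⁻¹ ∈ L := h
  have h4 := key' _ h'
  have e : r⁻¹ * (r * x * r⁻¹) * r⁻¹⁻¹ = x := by group
  rwa [e] at h4

/-- `[O_2(H), L] ≤ O_2(L)` -/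
theorem comm_le [Finite G] {L H : Subgroup G} (hLH : L ≤ H) (hs : (L.subgroupOf H).IsSubnormal)
    (hodd : oddGenerated L = L) : ⁅(pCore 2 ↥H).map H.subtype, L⁆ ≤ (pCore 2 ↥L).map L.subtype := by
  set R : Subgroup G := (pCore 2 ↥H).map H.subtype with hR
  have h1 : R ≤ normalizer (L : Set G) := core_le_normalizer hLH hs hodd
  have h2 : L ≤ normalizer (R : Set G) := hLH.trans (le_normalizer_map_pCore 2 H)
  have h3 : R ⊓ L ≤ (pCore 2 ↥L).map L.subtype := by
    refine le_map_pCore inf_le_right ((map_pCore_isPGroup 2 H).to_le inf_le_left) ?_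
    intro x hx
    rw [mem_normalizer_iff]
    intro y
    have h4 := mem_normalizer_iff.1 (h2 hx) y
    have h5 : y ∈ L ↔ x * y * x⁻¹ ∈ L := mem_normalizer_iff.1 (le_normalizer hx) y
    constructor
    · rintro ⟨h6, h7⟩; exact ⟨h4.1 h6, h5.1 h7⟩
    · rintro ⟨h6, h7⟩; exact ⟨h4.2 h6, h5.2 h7⟩
  exact (le_inf (le_normalizer_iff_commutator_le_left.1 h2) (le_normalizer_iff_commutator_le_right.1 h1)).trans h3

/-! ### `Ω₁(Z(R))` -/

theorem mem_omega {R : Subgroup G} {x : G} :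
    x ∈ omegaOne 2 (R ⊓ centralizer (R : Set G)) ↔ x ∈ R ∧ (∀ r ∈ R, r * x = x * r) ∧ x * x = 1 := by
  constructor
  · intro h
    refine Subgroup.closure_induction (p := fun x _ => x ∈ R ∧ (∀ r ∈ R, r * x = x * r) ∧ x * x = 1) ?_ ?_ ?_ ?_ h
    · rintro y ⟨⟨h1, h2⟩, h3⟩
      exact ⟨h1, fun r hr => mem_centralizer_iff.1 h2 r hr, by rw [← pow_two]; exact h3⟩
    · exact ⟨one_mem _, fun r _ => by rw [mul_one, one_mul], mul_one 1⟩
    · rintro a b - - ⟨ha, ha', ha''⟩ ⟨hb, hb', hb''⟩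
      refine ⟨mul_mem ha hb, fun r hr => ?_, ?_⟩
      · rw [← mul_assoc, ha' r hr, mul_assoc, hb' r hr, mul_assoc]
      · calc a * b * (a * b) = a * (b * a) * b := by group
          _ = a * (a * b) * b := by rw [ha' b hb]
          _ = (a * a) * (b * b) := by group
          _ = 1 := by rw [ha'', hb'', mul_one]
    · rintro a - ⟨ha, ha', ha''⟩
      refine ⟨inv_mem ha, fun r hr => ?_, ?_⟩
      · have h1 : a⁻¹ = a := inv_eq_of_mul_eq_one_left ha''
        rw [h1]; exact ha' r hr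
      · have h1 : a⁻¹ = a := inv_eq_of_mul_eq_one_left ha''
        rw [h1, ha'']
  · rintro ⟨h1, h2, h3⟩
    refine Subgroup.subset_closure ⟨⟨h1, mem_centralizer_iff.2 h2⟩, ?_⟩
    rw [pow_two]; exact h3

/-- `N(R)` normalizes `Ω₁(Z(R))` -/
theorem normalizer_le_omega (R : Subgroup G) :
    normalizer (R : Set G) ≤ normalizer (omegaOne 2 (R ⊓ centralizer (R : Set G)) : Set G) := by
  have key : ∀ g ∈ normalizer (R : Set G), ∀ x ∈ omegaOne 2 (R ⊓ centralizer (R : Set G)),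
      g * x * g⁻¹ ∈ omegaOne 2 (R ⊓ centralizer (R : Set G)) := by
    intro g hg x hx
    rw [mem_omega] at hx ⊢
    obtain ⟨h1, h2, h3⟩ := hx
    refine ⟨(mem_normalizer_iff.1 hg x).1 h1, fun r hr => ?_, ?_⟩
    · have h4 : g⁻¹ * r * g ∈ R := by
        have h5 := (mem_normalizer_iff.1 (inv_mem hg) r).1 hr
        rwa [inv_inv] at h5
      calc r * (g * x * g⁻¹) = g * ((g⁻¹ * r * g) * x) * g⁻¹ := by group
        _ = g * (x * (g⁻¹ * r * g)) * g⁻¹ := by rw [h2 _ h4]
        _ = g * x * g⁻¹ * r := by group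
    · calc g * x * g⁻¹ * (g * x * g⁻¹) = g * (x * x) * g⁻¹ := by group
        _ = 1 := by rw [h3]; group
  intro g hg
  rw [mem_normalizer_iff]
  intro x
  refine ⟨key g hg x, fun hx => ?_⟩
  have h8 := key g⁻¹ (Subgroup.inv_mem _ hg) _ hx
  have e : g⁻¹ * (g * x * g⁻¹) * g⁻¹⁻¹ = x := by group
  rwa [e] at h8

/-- `Ω₁(Z(O_2(H)))` -/
abbrev UU (H : Subgroup G) : Subgroup G :=
  omegaOne 2 ((pCore 2 ↥H).map H.subtype ⊓ centralizer (((pCore 2 ↥H).map H.subtype : Subgroup G) : Set G))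

/-- **`L ∈ ℒ_f(G, T)` acts nontrivially on `Ω₁(Z(O_2(⟨L, T⟩)))`** -/
theorem not_le_centralizer [Finite G] {L H : Subgroup G} (hLH : L ≤ H) (hs : (L.subgroupOf H).IsSubnormal)
    (hodd : oddGenerated L = L) (hH : centralizer (pCore 2 ↥H : Set ↥H) ≤ pCore 2 ↥H) (hV : moduleV L ≠ ⊥) :
    ¬ L ≤ centralizer (UU H : Set G) := by
  have : Fact (Nat.Prime 2) := ⟨Nat.prime_two⟩
  intro hcon
  set R : Subgroup G := (pCore 2 ↥H).map H.subtype with hR
  set D : Subgroup G := (pCore 2 ↥L).map L.subtype with hD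
  set A : Subgroup G := omegaOne 2 (D ⊓ centralizer (D : Set G)) with hA
  have hR2 : IsPGroup 2 ↥R := map_pCore_isPGroup 2 H
  have hD2 : IsPGroup 2 ↥D := map_pCore_isPGroup 2 L
  have hRH : R ≤ H := map_subtype_le _
  have hDL : D ≤ L := map_subtype_le _
  have hDR : D ≤ R := core_le hLH hs
  have hRL : R ≤ normalizer (L : Set G) := core_le_normalizer hLH hs hodd
  have hRLD : ⁅R, L⁆ ≤ D := comm_le hLH hs hodd
  have hLN : L ≤ normalizer (R : Set G) := hLH.trans (le_normalizer_map_pCore 2 H)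
  have hAD : A ≤ D := fun x hx => (mem_omega.1 hx).1
  have hLA : L ≤ normalizer (A : Set G) := (le_normalizer_map_pCore 2 L).trans (normalizer_le_omega D)
  have hRD : R ≤ normalizer (D : Set G) := by
    have h1 : ⁅R, D⁆ ≤ D := (commutator_mono le_rfl hDL).trans hRLD
    exact le_normalizer_iff_commutator_le_right.2 h1
  have hRA : R ≤ normalizer (A : Set G) := hRD.trans (normalizer_le_omega D)
  -- `C_H(R) ≤ R`
  have hCR : ∀ x ∈ H, (∀ r ∈ R, r * x = x * r) → x ∈ R := by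
    intro x hx h1
    refine ⟨⟨x, hx⟩, hH ?_, rfl⟩
    rw [mem_centralizer_iff]
    rintro ⟨y, hy⟩ hyR
    exact Subtype.ext (h1 y ⟨⟨y, hy⟩, hyR, rfl⟩)
  apply hV
  show ⁅A, L⁆ = ⊥
  rw [commutator_comm, commutator_eq_bot_iff_le_centralizer]
  -- elements of odd order
  have key : ∀ x ∈ L, Odd (orderOf x) → x ∈ centralizer (A : Set G) := by
    intro x hx hxo
    set Q : Subgroup G := zpowers x with hQ
    have hQL : Q ≤ L := (zpowers_le).2 hx
    have hQc : (Nat.card ↥Q).Coprime 2 := by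
      rw [hQ, Nat.card_zpowers]; exact Nat.coprime_two_right.2 hxo
    have hQR : Q ≤ normalizer (R : Set G) := hQL.trans hLN
    have hcop : (Nat.card ↥Q).Coprime (Nat.card ↥R) := by
      obtain ⟨k, hk⟩ := IsPGroup.iff_card.1 hR2
      rw [hk]; exact Nat.Coprime.pow_right k hQc
    have hfac : ⁅R, Q⁆ ⊔ (R ⊓ centralizer (Q : Set G)) = R :=
      Cfsg.Agent.S0026.result Q R hQR hcop (Or.inl (by
        have : IsMulCommutative ↥Q := by rw [hQ]; infer_instance
        infer_instance))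
    set P : Subgroup G := R ⊓ centralizer (Q : Set G) with hP
    have hPR : P ≤ R := inf_le_left
    have hRQD : ⁅R, Q⁆ ≤ D := (commutator_mono le_rfl hQL).trans hRLD
    have hres := Cfsg.Agent.Lib.ThompsonPQ.thompson_p_times_q 2 P Q A (hR2.to_le hPR) hQc (hD2.to_le hAD)
      inf_le_right (hPR.trans hRA) (hQL.trans hLA) ?_
    · exact hres (mem_zpowers x)
    · intro a ha
      have haA : a ∈ A := ha.1
      have haP : a ∈ centralizer (P : Set G) := ha.2
      have haD : a ∈ centralizer (D : Set G) := by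
        rw [mem_centralizer_iff]
        intro d hd
        exact (mem_omega.1 haA).2.1 d hd
      -- `a` centralizes `R`
      have h1 : R ≤ centralizer ({a} : Set G) := by
        rw [← hfac, sup_le_iff]
        constructor
        · intro y hy
          rw [mem_centralizer_singleton_iff]
          exact mem_centralizer_iff.1 haD y (hRQD hy)
        · intro y hy
          rw [mem_centralizer_singleton_iff]
          exact mem_centralizer_iff.1 haP y hy
      have h2 : ∀ r ∈ R, r * a = a * r := fun r hr => mem_centralizer_singleton_iff.1 (h1 hr)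
      have h3 : a ∈ UU H := by
        rw [mem_omega]
        exact ⟨hCR a (hRH (hDR (hAD haA))) h2, h2, (mem_omega.1 haA).2.2⟩
      rw [mem_centralizer_iff]
      intro q hq
      exact (mem_centralizer_iff.1 (hcon (hQL hq)) a h3).symm
  rw [← hodd, oddGenerated, closure_le]
  rintro x ⟨hx, hxo⟩
  exact key x hx hxo

/-- **The module of a member of `ℒ_f(G, T)`**: an elementary abelian subgroup `U ≤ T`, normalized by `L` and `T`, not
centralized by `L`. -/
theorem exists_module [Finite G] (hE : IsOfEvenCharacteristic G) (T : Sylow 2 G) {L : Subgroup G}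
    (hL : L ∈ calLf (T : Subgroup G)) :
    ∃ U : Subgroup G, U ≤ (T : Subgroup G) ∧ L ⊔ (T : Subgroup G) ≤ normalizer (U : Set G) ∧
      (∀ a ∈ U, ∀ b ∈ U, a * b = b * a) ∧ (∀ a ∈ U, a * a = 1) ∧ ¬ L ≤ centralizer (U : Set G) := by
  have : Fact (Nat.Prime 2) := ⟨Nat.prime_two⟩
  set H : Subgroup G := L ⊔ (T : Subgroup G) with hH
  have hTH : (T : Subgroup G) ≤ H := le_sup_right
  refine ⟨UU H, ?_, ?_, ?_, ?_, ?_⟩
  · intro x hx
    exact map_pCore_le_sylow T hTH (mem_omega.1 hx).1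
  · exact (le_normalizer_map_pCore 2 H).trans (normalizer_le_omega _)
  · intro a ha b hb
    exact (mem_omega.1 hb).2.1 a (mem_omega.1 ha).1
  · intro a ha
    exact (mem_omega.1 ha).2.2
  · exact not_le_centralizer le_sup_left (subnormal hL.1) (odd_gen hL)
      (charTwo_of_over hE T hTH (oTwo_ne hL.1)) hL.2.2

end Cfsg.Agent.H4.Lf
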