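import Cfsg.Agent.H3.Table
import Cfsg.Agent.H3.M24Row
import Cfsg.Agent.H6.He.Row
import Cfsg.Agent.H1.RowPSLFive
import Cfsg.Agent.H4.Hyp

/-!
# S1837: no `A₇` outside `M₂₂`, `M₂₃`, `J₄` (helper4)
-/

set_option autoImplicit false
set_option maxHeartbeats 400000

namespace Cfsg.Agent.H4.AltSeven

open Subgroup Cfsg Cfsg.Agent.H4.LfTrans Cfsg.Agent.H5.Resid Cfsg.Agent.H5 Cfsg.Agent.H3.Table

universe u v

theorem card_alt (n : ℕ) (hn : 2 ≤ n) : 2 * Nat.card (alternatingGroup (Fin n)) = n.factorial := by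
  have : Nontrivial (Fin n) := Fin.nontrivial_iff_two_le.2 hn
  have h := nat_card_alternatingGroup (α := Fin n)
  rw [Nat.card_fin] at h
  rw [h]
  have h2 : 2 ∣ n.factorial := (Nat.dvd_factorial (by norm_num) hn)
  omega

/-- the conclusion -/
def No7 (X : Type u) [Group X] : Prop := ¬ Nonempty ((X ⧸ twoZCore X) ≃* alternatingGroup (Fin 7))

theorem card_seven : Nat.card (alternatingGroup (Fin 7)) = 2520 := by
  have h := card_alt 7 (by norm_num)
  rw [show Nat.factorial 7 = 5040 by rfl] at h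
  omega

theorem le_twoZCore (X : Type u) [Group X] : pCore 2 X ≤ twoZCore X := by
  intro x hx
  show QuotientGroup.mk' (pCore 2 X) x ∈ center _
  have h1 : QuotientGroup.mk' (pCore 2 X) x = 1 := by
    rwa [← MonoidHom.mem_ker, QuotientGroup.ker_mk']
  rw [h1]
  exact one_mem _

theorem No7.of_card {X : Type u} [Group X] (h : ¬ 2520 ∣ Nat.card (X ⧸ pCore 2 X)) : No7 X := by
  rintro ⟨e⟩
  apply h
  rw [← card_seven, ← Nat.card_congr e.toEquiv]
  exact Subgroup.index_dvd_of_le (le_twoZCore X)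

theorem No7.of_simple {X : Type u} [Group X] {Q : Type v} [Group Q] [Finite Q] [IsSimpleGroup Q] (e : (X ⧸ pCore 2 X) ≃* Q)
    (hp : ¬ (Nat.card Q).Prime) (h : Nat.card Q ≠ 2520) : No7 X := by
  rintro ⟨f⟩
  apply h
  obtain ⟨g⟩ := ResidEnd.quot_equiv hp e
  rw [← Nat.card_congr g.toEquiv, Nat.card_congr f.toEquiv, card_seven]

theorem No7.congr {X : Type u} {Y : Type v} [Group X] [Group Y] (e : X ≃* Y) (h : No7 Y) : No7 X := by
  rintro ⟨f⟩
  exact h ⟨(quotZEquiv e).symm.trans f⟩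

theorem no_l3 {X : Type u} [Group X] (e : (X ⧸ pCore 2 X) ≃* Matrix.ProjectiveSpecialLinearGroup (Fin 3) (ZMod 2)) : No7 X :=
  .of_card (by rw [Nat.card_congr e.toEquiv, ResidEnd.card_l3]; norm_num)

theorem no_a5 {X : Type u} [Group X] (e : (X ⧸ pCore 2 X) ≃* alternatingGroup (Fin 5)) : No7 X :=
  .of_card (by rw [Nat.card_congr e.toEquiv, ResidEnd.card_alt_five]; norm_num)

theorem no_a6 {X : Type u} [Group X] (e : (X ⧸ pCore 2 X) ≃* alternatingGroup (Fin 6)) : No7 X :=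
  .of_card (by rw [Nat.card_congr e.toEquiv, ResidEnd.card_alt_six]; norm_num)

theorem card_eight : Nat.card (alternatingGroup (Fin 8)) = 20160 := by
  have h := card_alt 8 (by norm_num)
  rw [show Nat.factorial 8 = 40320 by rfl] at h
  omega

theorem no_a8 {X : Type u} [Group X] (e : (X ⧸ pCore 2 X) ≃* alternatingGroup (Fin 8)) : No7 X := by
  have : IsSimpleGroup (alternatingGroup (Fin 8)) := alternatingGroup.isSimpleGroup (by simp)
  exact .of_simple e (by rw [card_eight]; norm_num) (by rw [card_eight]; norm_num)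

section rows

variable {G : Type u} [Group G] [Finite G]

theorem no_64 (hFT : Top.FT.{u}) (hE : IsOfEvenCharacteristic G) (h128 : ¬ 128 ∣ Nat.card G) (T : Sylow 2 G)
    {L : Subgroup G} (hL : L ∈ calL (T : Subgroup G)) : No7 ↥L := by
  rcases (Row64.row64 hFT hE h128 T hL).2 with ⟨-, h, -⟩ | ⟨-, h, -⟩
  · exact .of_card (by rw [h]; norm_num)
  · exact .of_card (by rw [h]; norm_num)

theorem no_of_iso {K : Type v} [Group K] [Finite K] (e : G ≃* K)
    (h : ∀ (T : Sylow 2 K) (L : Subgroup K), L ∈ calL (T : Subgroup K) → No7 ↥L) (T : Sylow 2 G) {L : Subgroup G}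
    (hL : L ∈ calL (T : Subgroup G)) : No7 ↥L := by
  have h1 : L.map e.toMonoidHom ∈ calL ((mapSylow e T : Subgroup K)) := by
    rw [coe_mapSylow]
    exact map_mem_calL e hL
  exact No7.congr (sm e L) (h _ _ h1)

theorem no_m24_model (T : Sylow 2 ↥Cfsg.M24) (L : Subgroup ↥Cfsg.M24) (hL : L ∈ calL (T : Subgroup ↥Cfsg.M24)) :
    No7 ↥L := by
  obtain ⟨-, h2⟩ := H3.M24Row.row24 T hL
  rcases h2 with ⟨⟨f⟩⟩ | ⟨⟨f⟩⟩ | ⟨-, -, h2⟩
  · exact no_a8 f
  · exact no_l3 f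
  · rcases h2 with h2 | h2 <;> exact .of_card (by rw [h2]; norm_num)

theorem no_m24 (h : Spor.IsoM24 G) (T : Sylow 2 G) {L : Subgroup G} (hL : L ∈ calL (T : Subgroup G)) : No7 ↥L := by
  obtain ⟨e⟩ := h
  exact no_of_iso e no_m24_model T hL

theorem no_he (h : Spor.IsoHe G) (T : Sylow 2 G) {L : Subgroup G} (hL : L ∈ calL (T : Subgroup G)) : No7 ↥L := by
  rcases (H6.HeRow.he_mem h T hL).2 with ⟨⟨f⟩⟩ | ⟨-, h3, ⟨f⟩⟩
  · exact no_l3 f
  · have h4 := Subgroup.card_mul_index (center (↥L ⧸ pCore 2 ↥L))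
    have h5 : (center (↥L ⧸ pCore 2 ↥L)).index = 360 := by
      rw [Subgroup.index, Nat.card_congr f.toEquiv, ResidEnd.card_alt_six]
    rw [h3, h5] at h4
    exact .of_card (by rw [← h4]; norm_num)

theorem card_l4 {F : Type*} [Field F] [Fintype F] (hF : Fintype.card F = 2) :
    Nat.card (Matrix.ProjectiveSpecialLinearGroup (Fin 4) F) = 20160 := by
  obtain ⟨e⟩ := S0256.result (F := F) hF
  rw [Nat.card_congr e.toEquiv, card_eight]

theorem no_l5 {F : Type} [Field F] [Fintype F] (hF : Fintype.card F = 2)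
    (e : G ≃* Matrix.ProjectiveSpecialLinearGroup (Fin 5) F) (T : Sylow 2 G) {L : Subgroup G}
    (hL : L ∈ calL (T : Subgroup G)) : No7 ↥L := by
  obtain ⟨g₀⟩ := HypAll.exists_zmod_two hF
  have hchar : CharP F 2 := (RingHom.charP_iff (g₀ : F →+* ZMod 2) g₀.injective 2).2 inferInstance
  obtain ⟨-, i, ⟨f⟩⟩ := H1.RowPSLFive.row_psl_five hF e T L hL
  fin_cases i
  · obtain ⟨g⟩ := HypAll.exists_zmod_two hF
    exact no_l3 (f.trans (Cfsg.Agent.LieClassical.FieldTransfer.pslCongr (ι := Fin 3) g))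
  · obtain ⟨g⟩ := S0256.result (F := F) hF
    exact no_a8 (f.trans g)

theorem main (hFT0 : Top.FT.{0}) (hFT : Top.FT.{u}) (hE : IsOfEvenCharacteristic G) (hl : IsOnQTKEList G)
    (T : Sylow 2 G) (L : Subgroup G) (hL : L ∈ calLf (T : Subgroup G)) (h1 : ¬ IsLieRankTwoCharTwoLargeField G)
    (h2 : ¬ (Spor.IsoM22 G ∨ Spor.IsoM23 G ∨ Spor.IsoJ4 G)) : No7 ↥L := by
  rcases table hFT hE hl (HypAll.hyp hFT0 hE) with h | h | h
  · rcases h T L hL with ⟨⟨e⟩⟩ | ⟨⟨e⟩⟩ | ⟨⟨e⟩⟩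
    · exact no_a6 e
    · exact no_a5 e
    · exact no_l3 e
  · exact absurd h h1
  · rcases h with ⟨F, _, _, hF, ⟨e⟩⟩ | ⟨F, _, _, hF, ⟨e⟩⟩ | ⟨⟨e⟩⟩ | h | h | h | h | h
    · exact no_64 hFT hE (by rw [Nat.card_congr e.toEquiv, card_l4 hF]; norm_num) T hL.1
    · exact no_l5 hF e T hL.1
    · refine no_64 hFT hE ?_ T hL.1
      have h9 := card_alt 9 (by norm_num)
      rw [show Nat.factorial 9 = 362880 by rfl] at h9
      rw [Nat.card_congr e.toEquiv]
      omega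
    · exact absurd (Or.inl h) h2
    · exact absurd (Or.inr (Or.inl h)) h2
    · exact no_m24 h T hL.1
    · exact no_he h T hL.1
    · exact absurd (Or.inr (Or.inr h)) h2

end rows

end Cfsg.Agent.H4.AltSeven
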