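import Cfsg.Agent.H4.Row128
import Cfsg.Agent.LFourA.SylPsl

/-!
# The elementary abelian subgroups of order 16 of `D₈ wr 2` (helper4)
-/

set_option autoImplicit false

namespace Cfsg.Agent.H4.DWrCent

open Subgroup Cfsg.Agent.H4.Row128 Cfsg.Agent.LFourA.Model Cfsg.Agent.LFourA.Base

/-! ### the dihedral group of order 8 -/

/-- commuting elements of square one -/
def Good (S : Finset (DihedralGroup 4)) : Prop := (∀ a ∈ S, ∀ b ∈ S, a * b = b * a) ∧ (∀ a ∈ S, a * a = 1)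

instance good_dec (S : Finset (DihedralGroup 4)) : Decidable (Good S) := by unfold Good; infer_instance

theorem good_card : ∀ S : Finset (DihedralGroup 4), Good S → S.card ≤ 4 := by decide +kernel

theorem good_self : ∀ S : Finset (DihedralGroup 4), Good S → S.card = 4 →
    ∀ c, (∀ a ∈ S, c * a = a * c) → c ∈ S := by decide +kernel

theorem good_ex : ∀ S : Finset (DihedralGroup 4), Good S → S.card = 4 →
    ∃ a, a ∉ S ∧ a * a ∈ S ∧ (S.filter (fun c => a * c = c * a)).card = 2 := by decide +kernel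

theorem good_one : ∀ S : Finset (DihedralGroup 4), Good S → S.card = 4 → (1 : DihedralGroup 4) ∈ S := by
  decide +kernel

section

variable {G : Type*} [Group G] [Finite G] {S : Subgroup G} {f : D 0 → D 0 → G} {w : G}

open Classical in
/-- the first coordinates -/
noncomputable def pr₁ (f : D 0 → D 0 → G) (U : Subgroup G) : Finset (DihedralGroup 4) :=
  Finset.univ.filter fun a => ∃ b : D 0, f a b ∈ U

open Classical in
/-- the second coordinates -/
noncomputable def pr₂ (f : D 0 → D 0 → G) (U : Subgroup G) : Finset (DihedralGroup 4) :=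
  Finset.univ.filter fun b => ∃ a : D 0, f a b ∈ U

theorem mem_pr₁ {U : Subgroup G} {a : D 0} : a ∈ pr₁ f U ↔ ∃ b : D 0, f a b ∈ U := by
  simp [pr₁]

theorem mem_pr₂ {U : Subgroup G} {b : D 0} : b ∈ pr₂ f U ↔ ∃ a : D 0, f a b ∈ U := by
  simp [pr₂]

theorem good_pr₁ (h : DWr S 0 f w) {U : Subgroup G} (hc : ∀ a ∈ U, ∀ b ∈ U, a * b = b * a)
    (hs : ∀ a ∈ U, a * a = 1) : Good (pr₁ f U) := by
  constructor
  · intro a ha a' ha'
    obtain ⟨b, hb⟩ := mem_pr₁.1 ha
    obtain ⟨b', hb'⟩ := mem_pr₁.1 ha'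
    exact ((f_comm_iff h).1 (hc _ hb _ hb')).1
  · intro a ha
    obtain ⟨b, hb⟩ := mem_pr₁.1 ha
    have h1 := hs _ hb
    rw [h.f_mul] at h1
    exact (h.f_inj _ _ h1).1

theorem good_pr₂ (h : DWr S 0 f w) {U : Subgroup G} (hc : ∀ a ∈ U, ∀ b ∈ U, a * b = b * a)
    (hs : ∀ a ∈ U, a * a = 1) : Good (pr₂ f U) := by
  constructor
  · intro a ha a' ha'
    obtain ⟨b, hb⟩ := mem_pr₂.1 ha
    obtain ⟨b', hb'⟩ := mem_pr₂.1 ha'
    exact ((f_comm_iff h).1 (hc _ hb _ hb')).2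
  · intro a ha
    obtain ⟨b, hb⟩ := mem_pr₂.1 ha
    have h1 := hs _ hb
    rw [h.f_mul] at h1
    exact (h.f_inj _ _ h1).2

/-- elementary abelian subgroups of order 16 lie in the base -/
theorem not_fw (h : DWr S 0 f w) {U : Subgroup G} (hU : U ≤ S) (hc : ∀ a ∈ U, ∀ b ∈ U, a * b = b * a)
    (hs : ∀ a ∈ U, a * a = 1) (h16 : Nat.card ↥U = 16) (a b : D 0) : f a b * w ∉ U := by
  intro h0
  have hcard := good_card _ (good_pr₁ h hc hs)
  -- an injection `U → pr₁ × Bool`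
  have key : ∀ u : ↥U, ∃ (c : ↥(pr₁ f U)) (e : Bool), ∃ d : D 0, f c.1 d ∈ U ∧
      (u : G) = f c.1 d * (if e then f a b * w else 1) := by
    rintro ⟨u, hu⟩
    rcases mem_cases h (hU hu) with ⟨x, y, rfl⟩ | ⟨x, y, rfl⟩
    · exact ⟨⟨x, mem_pr₁.2 ⟨y, hu⟩⟩, false, y, hu, by simp⟩
    · have h1 : f x y * w * (f a b * w) ∈ U := mul_mem hu h0
      rw [fw_mul_fw h] at h1
      refine ⟨⟨x * b, mem_pr₁.2 ⟨_, h1⟩⟩, true, y * a, h1, ?_⟩
      have h2 := hs _ h0
      have h3 : f x y * w = f x y * w * (f a b * w) * (f a b * w) := by rw [mul_assoc, h2, mul_one]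
      rw [fw_mul_fw h] at h3
      simpa using h3
  choose c e d hd he using key
  have hinj : Function.Injective (fun u : ↥U => (c u, e u)) := by
    intro u v huv
    have h1 : c u = c v := congrArg Prod.fst huv
    have h2 : e u = e v := congrArg Prod.snd huv
    have h3 := (fw_comm_f_iff h).1 (hc _ h0 _ (hd u))
    have h4 := (fw_comm_f_iff h).1 (hc _ h0 _ (hd v))
    have h5 : d u = d v := by
      have h6 : a * d u = a * d v := by rw [h3.1, h4.1, h1]
      exact mul_left_cancel h6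
    apply Subtype.ext
    rw [he u, he v, h1, h2, h5]
  have h1 := Nat.card_le_card_of_injective _ hinj
  rw [h16, Nat.card_prod, Nat.card_eq_fintype_card, Nat.card_eq_fintype_card, Fintype.card_bool,
    Fintype.card_coe] at h1
  omega

/-- **The elementary abelian subgroups of order 16.** -/
theorem mem_iff (h : DWr S 0 f w) {U : Subgroup G} (hU : U ≤ S) (hc : ∀ a ∈ U, ∀ b ∈ U, a * b = b * a)
    (hs : ∀ a ∈ U, a * a = 1) (h16 : Nat.card ↥U = 16) :
    (pr₁ f U).card = 4 ∧ (pr₂ f U).card = 4 ∧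
      ∀ a b : D 0, f a b ∈ U ↔ a ∈ pr₁ f U ∧ b ∈ pr₂ f U := by
  classical
  have c1 := good_card _ (good_pr₁ h hc hs)
  have c2 := good_card _ (good_pr₂ h hc hs)
  set I : Finset G := ((pr₁ f U) ×ˢ (pr₂ f U)).image (fun p => f p.1 p.2) with hI
  have hIc : I.card = (pr₁ f U).card * (pr₂ f U).card := by
    rw [hI, Finset.card_image_of_injective, Finset.card_product]
    rintro ⟨x, y⟩ ⟨x', y'⟩ hxy
    have := (f_eq_iff h).1 hxy
    exact Prod.ext this.1 this.2
  have hUI : (U : Set G) ⊆ I := by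
    intro u hu
    rcases mem_cases h (hU hu) with ⟨x, y, rfl⟩ | ⟨x, y, rfl⟩
    · exact Finset.mem_coe.2 (Finset.mem_image.2 ⟨(x, y), Finset.mem_product.2
        ⟨mem_pr₁.2 ⟨y, hu⟩, mem_pr₂.2 ⟨x, hu⟩⟩, rfl⟩)
    · exact absurd hu (not_fw h hU hc hs h16 x y)
  have h1 : (U : Set G).ncard = 16 := by rw [← h16, ← Nat.card_coe_set_eq]; rfl
  have h2 : (U : Set G).ncard ≤ I.card := by
    rw [← Set.ncard_coe_finset]
    exact Set.ncard_le_ncard hUI (Finset.finite_toSet _)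
  rw [h1, hIc] at h2
  have h3 : (pr₁ f U).card = 4 := by nlinarith
  have h4 : (pr₂ f U).card = 4 := by nlinarith
  have hEq : (U : Set G) = I := by
    apply Set.eq_of_subset_of_ncard_le hUI
    rw [Set.ncard_coe_finset, hIc, h3, h4, h1]
  refine ⟨h3, h4, fun a b => ⟨fun hab => ⟨mem_pr₁.2 ⟨b, hab⟩, mem_pr₂.2 ⟨a, hab⟩⟩, fun hab => ?_⟩⟩
  have h5 : f a b ∈ (U : Set G) := by
    rw [hEq]
    exact Finset.mem_coe.2 (Finset.mem_image.2 ⟨(a, b), Finset.mem_product.2 hab, rfl⟩)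
  exact h5

/-- **self-centralizing** -/
theorem selfCent (h : DWr S 0 f w) : SelfCent S := by
  intro U hU hc hs h16 x hx hxU
  obtain ⟨h1, h2, h3⟩ := mem_iff h hU hc hs h16
  have g1 := good_pr₁ h hc hs
  have g2 := good_pr₂ h hc hs
  have o1 : (1 : D 0) ∈ pr₁ f U := good_one _ g1 h1
  have o2 : (1 : D 0) ∈ pr₂ f U := good_one _ g2 h2
  rcases mem_cases h hx with ⟨a, b, rfl⟩ | ⟨a, b, rfl⟩
  · refine (h3 a b).2 ⟨good_self _ g1 h1 a fun c hc' => ?_, good_self _ g2 h2 b fun c hc' => ?_⟩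
    · exact ((f_comm_iff h).1 (hxU _ ((h3 c 1).2 ⟨hc', o2⟩))).1
    · exact ((f_comm_iff h).1 (hxU _ ((h3 1 c).2 ⟨o1, hc'⟩))).2
  · exfalso
    have h4 : ∀ c ∈ pr₁ f U, c = 1 := by
      intro c hc'
      have h5 := ((fw_comm_f_iff h).1 (hxU _ ((h3 c 1).2 ⟨hc', o2⟩))).1
      have h6 : a * 1 = c * a := h5
      have h7 : 1 * a = c * a := by rw [one_mul, ← h6, mul_one]
      exact (mul_right_cancel h7).symm
    have h5 : pr₁ f U ⊆ {1} := fun c hc' => Finset.mem_singleton.2 (h4 c hc')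
    have h6 := Finset.card_le_card h5
    rw [h1, Finset.card_singleton] at h6
    omega

/-- elements outside `U` with different numbers of fixed points -/
theorem exists_pair (h : DWr S 0 f w) {U : Subgroup G} (hU : U ≤ S) (hc : ∀ a ∈ U, ∀ b ∈ U, a * b = b * a)
    (hs : ∀ a ∈ U, a * a = 1) (h16 : Nat.card ↥U = 16) :
    ∃ x ∈ S, ∃ y ∈ S, x ∉ U ∧ y ∉ U ∧ x * x ∈ U ∧ y * y ∈ U ∧
      Nat.card {u : G // u ∈ U ∧ x * u = u * x} = 8 ∧ Nat.card {u : G // u ∈ U ∧ y * u = u * y} = 4 := by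
  classical
  obtain ⟨h1, h2, h3⟩ := mem_iff h hU hc hs h16
  have g1 := good_pr₁ h hc hs
  have g2 := good_pr₂ h hc hs
  obtain ⟨a, a1, a2, a3⟩ := good_ex _ g1 h1
  obtain ⟨b, b1, b2, b3⟩ := good_ex _ g2 h2
  have o1 : (1 : D 0) ∈ pr₁ f U := good_one _ g1 h1
  have o2 : (1 : D 0) ∈ pr₂ f U := good_one _ g2 h2
  have cnt : ∀ x y : D 0, Nat.card {u : G // u ∈ U ∧ f x y * u = u * f x y} =
      ((pr₁ f U).filter (fun c => x * c = c * x)).card * ((pr₂ f U).filter (fun c => y * c = c * y)).card := by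
    intro x y
    rw [← Finset.card_product]
    have hset : {u : G | u ∈ U ∧ f x y * u = u * f x y} = (((pr₁ f U).filter (fun c => x * c = c * x) ×ˢ
        (pr₂ f U).filter (fun c => y * c = c * y)).image (fun p => f p.1 p.2) : Finset G) := by
      ext u
      rw [Set.mem_setOf_eq, Finset.mem_coe, Finset.mem_image]
      constructor
      · rintro ⟨hu, hcu⟩
        rcases mem_cases h (hU hu) with ⟨p, q, rfl⟩ | ⟨p, q, rfl⟩
        · have h4 := (h3 p q).1 hu
          have h5 := (f_comm_iff h).1 hcu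
          exact ⟨(p, q), Finset.mem_product.2 ⟨Finset.mem_filter.2 ⟨h4.1, h5.1⟩, Finset.mem_filter.2 ⟨h4.2, h5.2⟩⟩, rfl⟩
        · exact absurd hu (not_fw h hU hc hs h16 p q)
      · rintro ⟨⟨p, q⟩, hpq, rfl⟩
        rw [Finset.mem_product, Finset.mem_filter, Finset.mem_filter] at hpq
        exact ⟨(h3 p q).2 ⟨hpq.1.1, hpq.2.1⟩, (f_comm_iff h).2 ⟨hpq.1.2, hpq.2.2⟩⟩
    have h4 : Nat.card {u : G // u ∈ U ∧ f x y * u = u * f x y} =
        ({u : G | u ∈ U ∧ f x y * u = u * f x y} : Set G).ncard := by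
      rw [← Nat.card_coe_set_eq]; rfl
    rw [h4, hset, Set.ncard_coe_finset, Finset.card_image_of_injective]
    rintro ⟨x, y⟩ ⟨x', y'⟩ hxy
    have := (f_eq_iff h).1 hxy
    exact Prod.ext this.1 this.2
  have e1 : ((pr₁ f U).filter (fun c : D 0 => a * c = c * a)).card = 2 := by
    refine Eq.trans ?_ a3
    refine Finset.card_bij (fun c _ => c) (fun c hc' => ?_) (fun _ _ _ _ hh => hh) (fun c hc' => ⟨c, ?_, rfl⟩)
    · exact Finset.mem_filter.2 (Finset.mem_filter.1 hc')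
    · exact Finset.mem_filter.2 (Finset.mem_filter.1 hc')
  have e2 : ((pr₂ f U).filter (fun c : D 0 => b * c = c * b)).card = 2 := by
    refine Eq.trans ?_ b3
    refine Finset.card_bij (fun c _ => c) (fun c hc' => ?_) (fun _ _ _ _ hh => hh) (fun c hc' => ⟨c, ?_, rfl⟩)
    · exact Finset.mem_filter.2 (Finset.mem_filter.1 hc')
    · exact Finset.mem_filter.2 (Finset.mem_filter.1 hc')
  refine ⟨f a 1, f_mem h a 1, f a b, f_mem h a b, ?_, ?_, ?_, ?_, ?_, ?_⟩
  · exact fun hh => a1 ((h3 a 1).1 hh).1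
  · exact fun hh => a1 ((h3 a b).1 hh).1
  · rw [h.f_mul]; exact (h3 _ _).2 ⟨a2, by rw [mul_one]; exact o2⟩
  · rw [h.f_mul]; exact (h3 _ _).2 ⟨a2, b2⟩
  · rw [cnt, e1]
    have h5 : (pr₂ f U).filter (fun c => (1 : D 0) * c = c * 1) = pr₂ f U := by
      apply Finset.filter_true_of_mem
      intro c _
      rw [one_mul, mul_one]
    rw [h5, h2]
  · rw [cnt, e1, e2]

end

end Cfsg.Agent.H4.DWrCent
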