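import Mathlib
import Cfsg.Agent.H952.F4.Defs2

/-!
# S5926, trace identities for `A₇`: computing cycle types (helper4)

* `code σ` : the list of the values of a permutation of seven points, `comp` the product of codes;
* `cl p` : the number of the class (`1, 2², 3, 3², 42, 32², 5, 7`) of an even permutation with code `p`;
* `tr_code` : `trace (ρ g) = t (cl (code g))`;
* `val`, `tab`, `val_eq` : weighted sums of traces, computed from the table of multiplicities;
* `rank_one` : `trace (E A) trace (E A') = trace (E A E A')` if the rank of `E` is at most one.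
-/

set_option autoImplicit false

namespace Cfsg.Agent.H4.F4Kill

open Cfsg.Agent.H952.F4 Module Equiv

/-- The alternating group of degree 7. -/
abbrev A7 := ↥(alternatingGroup (Fin 7))

/-- Product of codes: first `q`, then `p`. -/
def comp (p q : List ℕ) : List ℕ := q.map fun i => p.getD i 0

/-- The code of a permutation. -/
def code (σ : Perm (Fin 7)) : List ℕ := (List.finRange 7).map fun i => ((σ i : Fin 7) : ℕ)

theorem code_getD (σ : Perm (Fin 7)) (i : Fin 7) : (code σ).getD (i : ℕ) 0 = ((σ i : Fin 7) : ℕ) := by
  unfold code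
  rw [List.getD_eq_getElem _ _ (by simp)]
  simp

theorem code_mul (σ τ : Perm (Fin 7)) : code (σ * τ) = comp (code σ) (code τ) := by
  unfold comp
  conv_lhs => unfold code
  conv_rhs => enter [2]; unfold code
  rw [List.map_map]
  apply List.map_congr_left
  intro i _
  simp only [Function.comp_apply, Perm.mul_apply, code_getD]

theorem code_inj {σ τ : Perm (Fin 7)} (h : code σ = code τ) : σ = τ := by
  ext i
  rw [← code_getD, ← code_getD, h]

theorem code_one : code 1 = [0, 1, 2, 3, 4, 5, 6] := by decide

/-- The number of fixed points. -/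
def fx (p : List ℕ) : ℕ := (List.range 7).countP fun i => p.getD i 0 == i

theorem fx_code (σ : Perm (Fin 7)) : fx (code σ) + σ.cycleType.sum = 7 := by
  rw [Perm.sum_cycleType]
  have h1 : fx (code σ) = (σ.supportᶜ).card := by
    unfold fx
    have h2 : List.range 7 = (List.finRange 7).map (fun i : Fin 7 => (i : ℕ)) := by decide
    rw [h2, List.countP_map]
    have h3 : ((fun i : ℕ => (code σ).getD i 0 == i) ∘ fun i : Fin 7 => (i : ℕ)) =
        fun i : Fin 7 => decide (σ i = i) := by
      funext i
      simp only [Function.comp_apply, code_getD]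
      rw [Bool.eq_iff_iff]
      simp [Fin.ext_iff]
    rw [h3, List.countP_eq_length_filter]
    have h4 : σ.supportᶜ = Finset.univ.filter (fun i => σ i = i) := by
      ext i
      simp
    rw [h4]
    rfl
  rw [h1, Finset.card_compl]
  have := Finset.card_le_univ σ.support
  simp only [Fintype.card_fin] at this ⊢
  omega

/-- The number of the class. -/
def cl (p : List ℕ) : ℕ :=
  match fx p with
  | 0 => if comp p (comp p (comp p (comp p (comp p (comp p p))))) = [0, 1, 2, 3, 4, 5, 6] then 7 else 5
  | 1 => if comp p (comp p p) = [0, 1, 2, 3, 4, 5, 6] then 3 else 4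
  | 2 => 6
  | 3 => 1
  | 4 => 2
  | _ => 0

theorem enum (m : Multiset ℕ) (h2 : ∀ n ∈ m, 2 ≤ n) (hs : m.sum ≤ 7) (he : Even (m.sum + Multiset.card m)) :
    m = 0 ∨ m = {3} ∨ m = {2, 2} ∨ m = {5} ∨ m = {4, 2} ∨ m = {3, 3} ∨ m = {7} ∨ m = {3, 2, 2} := by
  have hc : Multiset.card m * 2 ≤ m.sum := by
    have := Multiset.card_nsmul_le_sum (a := 2) h2
    simpa using this
  have hc3 : Multiset.card m ≤ 3 := by omega
  rw [Nat.even_iff] at he
  interval_cases hm : Multiset.card m
  · left
    exact Multiset.card_eq_zero.mp hm
  · obtain ⟨a, rfl⟩ := Multiset.card_eq_one.mp hm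
    simp only [Multiset.sum_singleton] at hs he hc
    have ha := h2 a (by simp)
    interval_cases a <;> simp_all
  · obtain ⟨a, b, rfl⟩ := Multiset.card_eq_two.mp hm
    have ha := h2 a (by simp)
    have hb := h2 b (by simp)
    simp only [Multiset.insert_eq_cons, Multiset.sum_cons, Multiset.sum_singleton] at hs he hc
    have ha7 : a ≤ 5 := by omega
    have hb7 : b ≤ 5 := by omega
    interval_cases a <;> interval_cases b <;> first | omega | (revert hm; decide) | skip
  · obtain ⟨a, b, c, rfl⟩ := Multiset.card_eq_three.mp hm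
    have ha := h2 a (by simp)
    have hb := h2 b (by simp)
    have hb := h2 c (by simp)
    simp only [Multiset.insert_eq_cons, Multiset.sum_cons, Multiset.sum_singleton] at hs he hc
    have ha7 : a ≤ 3 := by omega
    have hb7 : b ≤ 3 := by omega
    have hc7 : c ≤ 3 := by omega
    interval_cases a <;> interval_cases b <;> interval_cases c <;> first | omega | (revert hm; decide) | skip

theorem pow3_iff (σ : Perm (Fin 7)) :
    comp (code σ) (comp (code σ) (code σ)) = [0, 1, 2, 3, 4, 5, 6] ↔ σ.cycleType.lcm ∣ 3 := by
  rw [Perm.lcm_cycleType, orderOf_dvd_iff_pow_eq_one, ← code_one, ← code_mul, ← code_mul]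
  constructor
  · intro h
    rw [pow_succ', pow_succ', pow_one]
    exact code_inj h
  · intro h
    rw [pow_succ', pow_succ', pow_one] at h
    rw [h]

theorem pow7_iff (σ : Perm (Fin 7)) :
    comp (code σ) (comp (code σ) (comp (code σ) (comp (code σ) (comp (code σ) (comp (code σ) (code σ)))))) =
      [0, 1, 2, 3, 4, 5, 6] ↔ σ.cycleType.lcm ∣ 7 := by
  rw [Perm.lcm_cycleType, orderOf_dvd_iff_pow_eq_one, ← code_one]
  simp only [← code_mul]
  constructor
  · intro h
    simp only [pow_succ', pow_zero, mul_one]
    exact code_inj h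
  · intro h
    simp only [pow_succ', pow_zero, mul_one] at h
    rw [h]

section Trace

variable {K V : Type*} [Field K] [AddCommGroup V] [Module K V]
  (ρ : Representation K A7 V)

/-- The trace of `ρ g` from the code of `g`. -/
theorem tr_code {t : ℕ → K} (ht : Tr ρ (t 0) (t 1) (t 2) (t 3) (t 4) (t 5) (t 6) (t 7)) (g : A7) :
    LinearMap.trace K V (ρ g) = t (cl (code (g : Perm (Fin 7)))) := by
  have hsgn : Perm.sign (g : Perm (Fin 7)) = 1 := Perm.mem_alternatingGroup.mp g.2
  have hfx := fx_code (g : Perm (Fin 7))
  have hev : Even ((g : Perm (Fin 7)).cycleType.sum + Multiset.card (g : Perm (Fin 7)).cycleType) := by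
    rw [Perm.sign_of_cycleType] at hsgn
    by_contra hodd
    rw [Nat.not_even_iff_odd] at hodd
    rw [hodd.neg_one_pow] at hsgn
    exact absurd hsgn (by decide)
  have h3 := pow3_iff (g : Perm (Fin 7))
  have h7 := pow7_iff (g : Perm (Fin 7))
  rcases enum _ (fun n hn => Perm.two_le_of_mem_cycleType hn) (by omega) hev with h | h | h | h | h | h | h | h
  · have hg : g = 1 := by
      have := Perm.cycleType_eq_zero.mp h
      exact Subtype.ext this
    rw [h] at hfx
    simp only [Multiset.sum_zero, add_zero] at hfx
    unfold cl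
    rw [hfx, hg]
    exact ht.one
  · rw [h] at hfx
    simp only [Multiset.sum_singleton] at hfx
    unfold cl
    rw [show fx (code (g : Perm (Fin 7))) = 4 by omega]
    exact ht.three g h
  · rw [h] at hfx
    simp only [Multiset.insert_eq_cons, Multiset.sum_cons, Multiset.sum_singleton] at hfx
    unfold cl
    rw [show fx (code (g : Perm (Fin 7))) = 3 by omega]
    exact ht.two g h
  · rw [h] at hfx
    simp only [Multiset.sum_singleton] at hfx
    unfold cl
    rw [show fx (code (g : Perm (Fin 7))) = 2 by omega]
    exact ht.five g h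
  · rw [h] at hfx h3
    simp only [Multiset.insert_eq_cons, Multiset.sum_cons, Multiset.sum_singleton] at hfx
    unfold cl
    rw [show fx (code (g : Perm (Fin 7))) = 1 by omega]
    have h4 : ¬ (({4, 2} : Multiset ℕ).lcm ∣ 3) := by decide
    simp only [h3, h4, if_false]
    exact ht.four g h
  · rw [h] at hfx h3
    simp only [Multiset.insert_eq_cons, Multiset.sum_cons, Multiset.sum_singleton] at hfx
    unfold cl
    rw [show fx (code (g : Perm (Fin 7))) = 1 by omega]
    have h4 : (({3, 3} : Multiset ℕ).lcm ∣ 3) := by decide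
    simp only [h3, h4, if_true]
    exact ht.threeb g h
  · rw [h] at hfx h7
    simp only [Multiset.sum_singleton] at hfx
    unfold cl
    rw [show fx (code (g : Perm (Fin 7))) = 0 by omega]
    have h4 : (({7} : Multiset ℕ).lcm ∣ 7) := by decide
    simp only [h7, h4, if_true]
    exact ht.seven g h
  · rw [h] at hfx h7
    simp only [Multiset.insert_eq_cons, Multiset.sum_cons, Multiset.sum_singleton] at hfx
    unfold cl
    rw [show fx (code (g : Perm (Fin 7))) = 0 by omega]
    have h4 : ¬ (({3, 2, 2} : Multiset ℕ).lcm ∣ 7) := by decide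
    simp only [h7, h4, if_false]
    exact ht.six g h

end Trace

section Val

variable {K : Type*} [CommRing K]

/-- Weighted sum. -/
def val (μ : K) (t : ℕ → K) (L : List (ℕ × ℕ)) : K := (L.map fun x => μ ^ x.1 * t x.2).sum

/-- Multiplicity. -/
def cnt (L : List (ℕ × ℕ)) (x : ℕ × ℕ) : ℕ := @List.count (ℕ × ℕ) instBEqOfDecidableEq x L

/-- The table of multiplicities. -/
def tab (L : List (ℕ × ℕ)) : List (List ℕ) :=
  (List.range 4).map fun j => (List.range 8).map fun k => cnt L (j, k)

theorem tab_getD (L : List (ℕ × ℕ)) {j k : ℕ} (hj : j < 4) (hk : k < 8) :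
    ((tab L).getD j []).getD k 0 = cnt L (j, k) := by
  have h1 : (tab L).getD j [] = (List.range 8).map fun k => cnt L (j, k) := by
    unfold tab
    rw [List.getD_eq_getElem _ _ (by simpa using hj)]
    simp
  rw [h1, List.getD_eq_getElem _ _ (by simpa using hk)]
  simp

/-- Evaluation of a weighted sum from the table. -/
theorem val_eq (μ : K) (t : ℕ → K) {L : List (ℕ × ℕ)} {T : List (List ℕ)} (hT : tab L = T)
    (hL : L.all (fun x => decide (x.1 < 4) && decide (x.2 < 8)) = true) :
    val μ t L = ∑ j ∈ Finset.range 4, ∑ k ∈ Finset.range 8, (((T.getD j []).getD k 0 : ℕ) : K) * (μ ^ j * t k) := by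
  subst hT
  unfold val
  rw [Finset.sum_list_map_count]
  rw [← Finset.sum_product']
  rw [Finset.sum_subset (s₂ := Finset.range 4 ×ˢ Finset.range 8)]
  · apply Finset.sum_congr rfl
    intro x hx
    rw [Finset.mem_product, Finset.mem_range, Finset.mem_range] at hx
    rw [tab_getD L hx.1 hx.2, nsmul_eq_mul]
    rfl
  · intro x hx
    rw [List.mem_toFinset] at hx
    rw [List.all_eq_true] at hL
    have := hL x hx
    simp only [Bool.and_eq_true, decide_eq_true_eq] at this
    rw [Finset.mem_product, Finset.mem_range, Finset.mem_range]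
    exact this
  · intro x _ hx
    rw [List.mem_toFinset] at hx
    rw [@List.count_eq_zero_of_not_mem _ instBEqOfDecidableEq _ _ _ hx, zero_smul]

end Val

section RankOne

variable {K V : Type*} [Field K] [AddCommGroup V] [Module K V] [FiniteDimensional K V]

/-- Operators with image in a line. -/
theorem rank_one {E : Module.End K V} {W : Submodule K V} (hE : ∀ x, E x ∈ W) (hW : finrank K W = 1)
    (A B : Module.End K V) :
    LinearMap.trace K V (E * A) * LinearMap.trace K V (E * B) = LinearMap.trace K V (E * A * (E * B)) := by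
  let L : W ≃ₗ[K] K := LinearEquiv.ofFinrankEq W K (by simp [hW])
  let φ : V →ₗ[K] K := L.toLinearMap ∘ₗ E.codRestrict W hE
  let v : V := ((L.symm 1 : W) : V)
  have hEφ : ∀ x, E x = φ x • v := by
    intro x
    have h1 : (E.codRestrict W hE x : W) = L.symm (φ x) := by
      rw [LinearEquiv.eq_symm_apply]; rfl
    have h2 : (L.symm (φ x) : W) = φ x • L.symm 1 := by
      rw [← map_smul, smul_eq_mul, mul_one]
    have h3 := congrArg (fun w : W => (w : V)) (h1.trans h2)
    exact h3
  have h1 : ∀ C : Module.End K V, LinearMap.trace K V (E * C) = φ (C v) := by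
    intro C
    have : E * C = (φ ∘ₗ C).smulRight v := by
      ext x
      exact hEφ (C x)
    rw [this, LinearMap.trace_smulRight]
    rfl
  have h2 : LinearMap.trace K V (E * A * (E * B)) = φ (A v) * φ (B v) := by
    have : E * A * (E * B) = E * (A * E * B) := by simp only [mul_assoc]
    rw [this, h1]
    have : (A * E * B) v = φ (B v) • A v := by
      change A (E (B v)) = _
      rw [hEφ, map_smul]
    rw [this, map_smul, smul_eq_mul, mul_comm]
  rw [h2, h1, h1]

/-- The trace of an operator with image in a line on which it is a scalar. -/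
theorem rank_one_trace {E : Module.End K V} {W : Submodule K V} (hE : ∀ x, E x ∈ W) (hW : finrank K W = 1)
    {n : K} (hn : ∀ x ∈ W, E x = n • x) : LinearMap.trace K V E = n := by
  let L : W ≃ₗ[K] K := LinearEquiv.ofFinrankEq W K (by simp [hW])
  let φ : V →ₗ[K] K := L.toLinearMap ∘ₗ E.codRestrict W hE
  let v : V := ((L.symm 1 : W) : V)
  have hEφ : ∀ x, E x = φ x • v := by
    intro x
    have h1 : (E.codRestrict W hE x : W) = L.symm (φ x) := by
      rw [LinearEquiv.eq_symm_apply]; rfl
    have h2 : (L.symm (φ x) : W) = φ x • L.symm 1 := by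
      rw [← map_smul, smul_eq_mul, mul_one]
    have h3 := congrArg (fun w : W => (w : V)) (h1.trans h2)
    exact h3
  have hv : v ≠ 0 := by
    intro h0
    have : (L.symm 1 : W) = 0 := Subtype.ext h0
    rw [LinearEquiv.map_eq_zero_iff] at this
    exact one_ne_zero this
  have h1 : LinearMap.trace K V E = φ v := by
    have : E = φ.smulRight v := by
      ext x
      exact hEφ x
    rw [this, LinearMap.trace_smulRight]
  rw [h1]
  have h2 := hEφ v
  rw [hn v (L.symm 1).2] at h2
  exact (smul_left_injective K hv h2).symm

end RankOne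

end Cfsg.Agent.H4.F4Kill
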