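import Mathlib
import Cfsg.Agent.H4.F4KillBase

/-!
# S5926, trace identities for `A₇`: the group `5:4` (helper4)
-/

set_option autoImplicit false

namespace Cfsg.Agent.H4.F4Kill

open Cfsg.Agent.H952.F4 Module Equiv

/-- [1, 2, 3, 4, 0, 5, 6] -/
def pz : Perm (Fin 7) := ⟨![1, 2, 3, 4, 0, 5, 6], ![4, 0, 1, 2, 3, 5, 6], by decide, by decide⟩

/-- [1, 2, 3, 4, 0, 5, 6] -/
def z : A7 := ⟨pz, by rw [Perm.mem_alternatingGroup]; decide +kernel⟩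

/-- [1, 3, 0, 2, 4, 6, 5] -/
def pc : Perm (Fin 7) := ⟨![1, 3, 0, 2, 4, 6, 5], ![2, 0, 3, 1, 4, 6, 5], by decide, by decide⟩

/-- [1, 3, 0, 2, 4, 6, 5] -/
def c : A7 := ⟨pc, by rw [Perm.mem_alternatingGroup]; decide +kernel⟩

/-- [3, 1, 2, 0, 6, 5, 4] -/
def pg0 : Perm (Fin 7) := ⟨![3, 1, 2, 0, 6, 5, 4], ![3, 1, 2, 0, 6, 5, 4], by decide, by decide⟩

/-- [3, 1, 2, 0, 6, 5, 4] -/
def g0 : A7 := ⟨pg0, by rw [Perm.mem_alternatingGroup]; decide +kernel⟩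

/-- [3, 0, 1, 4, 5, 6, 2] -/
def pg2 : Perm (Fin 7) := ⟨![3, 0, 1, 4, 5, 6, 2], ![1, 2, 6, 0, 3, 4, 5], by decide, by decide⟩

/-- [3, 0, 1, 4, 5, 6, 2] -/
def g2 : A7 := ⟨pg2, by rw [Perm.mem_alternatingGroup]; decide +kernel⟩

/-- [1, 0, 3, 2, 4, 5, 6] -/
def pg7 : Perm (Fin 7) := ⟨![1, 0, 3, 2, 4, 5, 6], ![1, 0, 3, 2, 4, 5, 6], by decide, by decide⟩

/-- [1, 0, 3, 2, 4, 5, 6] -/
def g7 : A7 := ⟨pg7, by rw [Perm.mem_alternatingGroup]; decide +kernel⟩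

/-- [6, 0, 4, 3, 5, 2, 1] -/
def pg3 : Perm (Fin 7) := ⟨![6, 0, 4, 3, 5, 2, 1], ![1, 6, 5, 3, 2, 4, 0], by decide, by decide⟩

/-- [6, 0, 4, 3, 5, 2, 1] -/
def g3 : A7 := ⟨pg3, by rw [Perm.mem_alternatingGroup]; decide +kernel⟩

theorem z5 : z ^ 5 = 1 := by decide +kernel

theorem c4 : c ^ 4 = 1 := by decide +kernel

theorem cz : c * z = z ^ 2 * c := by decide +kernel

/-- The elements of `5:4`. -/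
def BL : List (ℕ × A7) := (List.range 4).flatMap fun b => (List.range 5).map fun a => (b, z ^ a * c ^ b)

/-- The codes of the elements of `5:4`. -/
def BC : List (ℕ × List ℕ) :=
  [(0, [0, 1, 2, 3, 4, 5, 6]),
   (0, [1, 2, 3, 4, 0, 5, 6]),
   (0, [2, 3, 4, 0, 1, 5, 6]),
   (0, [3, 4, 0, 1, 2, 5, 6]),
   (0, [4, 0, 1, 2, 3, 5, 6]),
   (1, [1, 3, 0, 2, 4, 6, 5]),
   (1, [2, 4, 1, 3, 0, 6, 5]),
   (1, [3, 0, 2, 4, 1, 6, 5]),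
   (1, [4, 1, 3, 0, 2, 6, 5]),
   (1, [0, 2, 4, 1, 3, 6, 5]),
   (2, [3, 2, 1, 0, 4, 5, 6]),
   (2, [4, 3, 2, 1, 0, 5, 6]),
   (2, [0, 4, 3, 2, 1, 5, 6]),
   (2, [1, 0, 4, 3, 2, 5, 6]),
   (2, [2, 1, 0, 4, 3, 5, 6]),
   (3, [2, 0, 3, 1, 4, 6, 5]),
   (3, [3, 1, 4, 2, 0, 6, 5]),
   (3, [4, 2, 0, 3, 1, 6, 5]),
   (3, [0, 3, 1, 4, 2, 6, 5]),
   (3, [1, 4, 2, 0, 3, 6, 5])]

theorem BC_eq : BL.map (fun x => (x.1, code (x.2 : Perm (Fin 7)))) = BC := by decide +kernel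

/-- Classes in `B q`. -/
def S1 (q : List ℕ) : List (ℕ × ℕ) := BC.map fun x => (x.1, cl (comp x.2 q))

/-- Classes in `B q B r`. -/
def S2 (q r : List ℕ) : List (ℕ × ℕ) :=
  BC.flatMap fun x => BC.map fun y => ((x.1 + y.1) % 4, cl (comp (comp x.2 q) (comp y.2 r)))

theorem tab1_1 : tab (S1 [0, 1, 2, 3, 4, 5, 6]) =
    [[1, 0, 0, 0, 0, 0, 4, 0], [0, 0, 0, 0, 5, 0, 0, 0], [0, 5, 0, 0, 0, 0, 0, 0], [0, 0, 0, 0, 5, 0, 0, 0]] := by decide +kernel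

theorem tab1_g0 : tab (S1 [3, 1, 2, 0, 6, 5, 4]) =
    [[0, 1, 0, 2, 0, 0, 2, 0], [0, 0, 0, 0, 0, 1, 2, 2], [0, 1, 0, 2, 0, 0, 2, 0], [0, 0, 0, 0, 0, 1, 2, 2]] := by decide +kernel

theorem tab1_g2 : tab (S1 [3, 0, 1, 4, 5, 6, 2]) =
    [[0, 0, 0, 1, 1, 0, 1, 2], [0, 1, 0, 0, 2, 0, 2, 0], [0, 0, 0, 1, 1, 0, 1, 2], [0, 0, 1, 1, 2, 0, 1, 0]] := by decide +kernel

theorem tab1_g7 : tab (S1 [1, 0, 3, 2, 4, 5, 6]) =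
    [[0, 1, 2, 0, 0, 0, 2, 0], [0, 1, 0, 0, 2, 2, 0, 0], [0, 1, 2, 0, 0, 0, 2, 0], [0, 1, 0, 0, 2, 2, 0, 0]] := by decide +kernel

theorem tab1_g3 : tab (S1 [6, 0, 4, 3, 5, 2, 1]) =
    [[0, 0, 0, 2, 1, 2, 0, 0], [0, 0, 0, 1, 2, 0, 0, 2], [0, 1, 0, 0, 0, 0, 0, 4], [0, 0, 0, 1, 2, 0, 0, 2]] := by decide +kernel

theorem tab2_g0g0 : tab (S2 [3, 1, 2, 0, 6, 5, 4] [3, 1, 2, 0, 6, 5, 4]) =
    [[2, 8, 0, 16, 32, 2, 24, 16], [0, 0, 0, 0, 20, 16, 32, 32], [0, 18, 2, 24, 0, 8, 24, 24], [0, 0, 0, 0, 20, 16, 32, 32]] := by decide +kernel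

theorem tab2_g0g2 : tab (S2 [3, 1, 2, 0, 6, 5, 4] [3, 0, 1, 4, 5, 6, 2]) =
    [[0, 4, 2, 12, 28, 10, 12, 32], [0, 8, 6, 6, 28, 2, 26, 24], [0, 4, 2, 12, 28, 10, 12, 32], [0, 4, 8, 14, 24, 8, 26, 16]] := by decide +kernel

theorem tab2_g7g7 : tab (S2 [1, 0, 3, 2, 4, 5, 6] [1, 0, 3, 2, 4, 5, 6]) =
    [[2, 26, 32, 0, 0, 0, 40, 0], [0, 16, 0, 0, 52, 32, 0, 0], [2, 26, 32, 0, 0, 0, 40, 0], [0, 16, 0, 0, 52, 32, 0, 0]] := by decide +kernel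

theorem tab2_g3g3 : tab (S2 [6, 0, 4, 3, 5, 2, 1] [6, 0, 4, 3, 5, 2, 1]) =
    [[1, 1, 6, 18, 24, 10, 20, 20], [0, 6, 4, 16, 26, 4, 20, 24], [0, 14, 0, 6, 28, 4, 20, 28], [0, 6, 4, 16, 26, 4, 20, 24]] := by decide +kernel

end Cfsg.Agent.H4.F4Kill
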