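import Mathlib
import Cfsg.Agent.H4.F4KillTab

/-!
# S5926, trace identities for `A₇`: characters of `5:4` that occur once (helper4)
-/

set_option autoImplicit false

namespace Cfsg.Agent.H4.F4Kill

open Cfsg.Agent.H952.F4 Module Equiv

section Sum

variable {K V : Type*} [Field K] [AddCommGroup V] [Module K V]
  (ρ : Representation K A7 V)

/-- `20` times the idempotent of the character `λ` with `λ(c) = μ⁻¹`. -/
noncomputable def EE (μ : K) : Module.End K V := (BL.map fun x => μ ^ x.1 • (ρ x.2 : Module.End K V)).sum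

theorem tr_list {ι : Type*} (l : List ι) (f : ι → Module.End K V) :
    LinearMap.trace K V (l.map f).sum = (l.map fun x => LinearMap.trace K V (f x)).sum := by
  rw [map_list_sum, List.map_map]
  rfl

theorem sum_fm {ι M : Type*} [AddCommMonoid M] (l : List ι) (f : ι → List M) :
    (l.flatMap f).sum = (l.map fun x => (f x).sum).sum := by
  induction l with
  | nil => rfl
  | cons a l ih => rw [List.flatMap_cons, List.sum_append, List.map_cons, List.sum_cons, ih]

variable {ρ}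

theorem tr_EE1 {t : ℕ → K} (ht : Tr ρ (t 0) (t 1) (t 2) (t 3) (t 4) (t 5) (t 6) (t 7)) (μ : K) (g : A7) :
    LinearMap.trace K V (EE ρ μ * ρ g) = val μ t (S1 (code (g : Perm (Fin 7)))) := by
  unfold EE val S1
  rw [← BC_eq, List.map_map, List.map_map, ← List.sum_map_mul_right, tr_list]
  congr 1
  apply List.map_congr_left
  intro x _
  rw [smul_mul_assoc, ← map_mul, map_smul, tr_code ρ ht, smul_eq_mul]
  simp only [Function.comp_apply, Subgroup.coe_mul, code_mul]

theorem tr_EE2 {t : ℕ → K} (ht : Tr ρ (t 0) (t 1) (t 2) (t 3) (t 4) (t 5) (t 6) (t 7)) {μ : K} (hμ : μ ^ 4 = 1)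
    (g h : A7) :
    LinearMap.trace K V (EE ρ μ * ρ g * (EE ρ μ * ρ h)) =
      val μ t (S2 (code (g : Perm (Fin 7))) (code (h : Perm (Fin 7)))) := by
  have h1 : ∀ k : A7, EE ρ μ * ρ k = (BL.map fun x => μ ^ x.1 • (ρ (x.2 * k) : Module.End K V)).sum := by
    intro k
    unfold EE
    rw [← List.sum_map_mul_right]
    congr 1
    apply List.map_congr_left
    intro x _
    rw [smul_mul_assoc, ← map_mul]
  rw [h1, h1, ← List.sum_map_mul_right, tr_list]
  unfold val S2
  rw [← BC_eq, List.map_flatMap, List.flatMap_map, sum_fm]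
  congr 1
  apply List.map_congr_left
  intro x _
  rw [← List.sum_map_mul_left, tr_list, List.map_map, List.map_map]
  congr 1
  apply List.map_congr_left
  intro y _
  rw [smul_mul_assoc, mul_smul_comm, smul_smul, ← map_mul, map_smul, tr_code ρ ht, smul_eq_mul, ← pow_add]
  simp only [Function.comp_apply, Subgroup.coe_mul, code_mul]
  congr 1
  conv_lhs => rw [← Nat.div_add_mod (x.1 + y.1) 4, pow_add, pow_mul, hμ, one_pow, one_mul]

/-- The image of `EE` lies in the eigenspace. -/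
theorem EE_mem {μ l : K} (hμ : μ ^ 4 = 1) (hl : l * μ = 1) (v : V) :
    EE ρ μ v ∈ es (ρ z) 1 ⊓ es (ρ c) l := by
  have hZ : (ρ z : Module.End K V) ^ 5 = 1 := by rw [← map_pow, z5, map_one]
  have hC : (ρ c : Module.End K V) ^ 4 = 1 := by rw [← map_pow, c4, map_one]
  have hCZ : (ρ c : Module.End K V) * ρ z = ρ z ^ 2 * ρ c := by rw [← map_pow, ← map_mul, ← map_mul, cz]
  set Z : Module.End K V := ρ z with hZd
  set C : Module.End K V := ρ c with hCd
  have hE : EE ρ μ = (1 + Z + Z ^ 2 + Z ^ 3 + Z ^ 4) * (1 + μ • C + μ ^ 2 • C ^ 2 + μ ^ 3 • C ^ 3) := by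
    unfold EE BL
    rw [List.map_flatMap, sum_fm]
    rw [show List.range 4 = [0, 1, 2, 3] from rfl, show List.range 5 = [0, 1, 2, 3, 4] from rfl]
    simp only [List.map_cons, List.map_nil, List.sum_cons, List.sum_nil, map_mul, map_pow, pow_zero, pow_one,
      one_smul, mul_one, one_mul, ← hZd, ← hCd, add_zero, mul_add, add_mul, mul_smul_comm, smul_add]
    abel
  have h1 : Z * (1 + Z + Z ^ 2 + Z ^ 3 + Z ^ 4) = 1 + Z + Z ^ 2 + Z ^ 3 + Z ^ 4 := by
    have : Z * (1 + Z + Z ^ 2 + Z ^ 3 + Z ^ 4) = Z + Z ^ 2 + Z ^ 3 + Z ^ 4 + Z ^ 5 := by noncomm_ring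
    rw [this, hZ]
    abel
  have hCZ2 : C * Z ^ 2 = Z ^ 4 * C := by
    rw [pow_two, ← mul_assoc, hCZ, mul_assoc, hCZ, ← mul_assoc, ← pow_add]
  have hCZ3 : C * Z ^ 3 = Z * C := by
    rw [pow_succ, ← mul_assoc, hCZ2, mul_assoc, hCZ, ← mul_assoc, ← pow_add, pow_succ' Z 5, hZ, mul_one]
  have hCZ4 : C * Z ^ 4 = Z ^ 3 * C := by
    rw [pow_succ, ← mul_assoc, hCZ3, mul_assoc, hCZ, ← mul_assoc, ← pow_succ']
  have h2 : C * (1 + Z + Z ^ 2 + Z ^ 3 + Z ^ 4) = (1 + Z + Z ^ 2 + Z ^ 3 + Z ^ 4) * C := by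
    simp only [mul_add, add_mul, hCZ, hCZ2, hCZ3, hCZ4, mul_one, one_mul]
    abel
  have hl3 : l = μ ^ 3 := by
    have : l * μ ^ 4 = μ ^ 3 := by rw [pow_succ' μ 3, ← mul_assoc, hl, one_mul]
    rw [hμ, mul_one] at this
    exact this
  have h3 : C * (1 + μ • C + μ ^ 2 • C ^ 2 + μ ^ 3 • C ^ 3) =
      l • (1 + μ • C + μ ^ 2 • C ^ 2 + μ ^ 3 • C ^ 3) := by
    have l2 : l * μ ^ 2 = μ := by rw [pow_two, ← mul_assoc, hl, one_mul]
    have l3 : l * μ ^ 3 = μ ^ 2 := by rw [pow_succ' μ 2, ← mul_assoc, hl, one_mul]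
    simp only [mul_add, smul_add, smul_smul, mul_smul_comm, mul_one, l2, l3, hl, one_smul]
    rw [← pow_two, ← pow_succ', ← pow_succ', hC, hl3]
    abel
  rw [Submodule.mem_inf]
  refine ⟨?_, ?_⟩
  · change EE ρ μ v ∈ Module.End.eigenspace Z 1
    rw [Module.End.mem_eigenspace_iff, one_smul, hE]
    change (Z * (_ * _)) v = _
    rw [← mul_assoc, h1]
  · change EE ρ μ v ∈ Module.End.eigenspace C l
    rw [Module.End.mem_eigenspace_iff, hE]
    change (C * (_ * _)) v = _
    rw [← mul_assoc, h2, mul_assoc, h3, mul_smul_comm]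
    rfl

/-- `EE` is a scalar on the eigenspace. -/
theorem EE_scalar {μ l : K} (hl : l * μ = 1) (v : V) (hv : v ∈ es (ρ z) 1 ⊓ es (ρ c) l) :
    EE ρ μ v = (20 : K) • v := by
  rw [Submodule.mem_inf] at hv
  have h1 : ρ z v = v := by
    have := (Module.End.mem_eigenspace_iff.mp (show v ∈ Module.End.eigenspace (ρ z) 1 from hv.1))
    rwa [one_smul] at this
  have h2 : ρ c v = l • v := Module.End.mem_eigenspace_iff.mp (show v ∈ Module.End.eigenspace (ρ c) l from hv.2)
  have h3 : ∀ b : ℕ, ρ (c ^ b) v = l ^ b • v := by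
    intro b
    induction b with
    | zero => simp
    | succ b ih =>
      rw [pow_succ', map_mul, Module.End.mul_apply, ih, map_smul, h2, smul_smul, ← pow_succ]
  have h4 : ∀ (a : ℕ) , ρ (z ^ a) v = v := by
    intro a
    induction a with
    | zero => simp
    | succ a ih => rw [pow_succ', map_mul, Module.End.mul_apply, ih, h1]
  have h5 : ∀ a b : ℕ, (μ ^ b • (ρ (z ^ a * c ^ b) : Module.End K V)) v = v := by
    intro a b
    rw [LinearMap.smul_apply, map_mul, Module.End.mul_apply, h3, map_smul, h4, smul_smul, ← mul_pow, mul_comm μ l, hl,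
      one_pow, one_smul]
  unfold EE BL
  rw [List.map_flatMap, sum_fm]
  rw [show List.range 4 = [0, 1, 2, 3] from rfl, show List.range 5 = [0, 1, 2, 3, 4] from rfl]
  simp only [List.map_cons, List.map_nil, List.sum_cons, List.sum_nil, LinearMap.add_apply, LinearMap.zero_apply, h5,
    add_zero]
  module

end Sum

end Cfsg.Agent.H4.F4Kill
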