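import Mathlib
import Cfsg.Agent.H4.F4KillOne
import Cfsg.Agent.H952.F4.EigFrob

/-!
# S5926, B2: the characters of `5:4` of order 2 and 4 occur once (helper4)

`Cfsg.Agent.H952.F4.Kill.rel_one`.
-/

set_option autoImplicit false

namespace Cfsg.Agent.H4.F4Kill

open Cfsg.Agent.H952.F4 Module Equiv

theorem code_g0 : code (g0 : Perm (Fin 7)) = [3, 1, 2, 0, 6, 5, 4] := by decide
theorem code_g2 : code (g2 : Perm (Fin 7)) = [3, 0, 1, 4, 5, 6, 2] := by decide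
theorem code_g7 : code (g7 : Perm (Fin 7)) = [1, 0, 3, 2, 4, 5, 6] := by decide
theorem code_g3 : code (g3 : Perm (Fin 7)) = [6, 0, 4, 3, 5, 2, 1] := by decide

section Val

variable {K : Type*} [CommRing K]

theorem vi_g0 (t : ℕ → K) {μ : K} (h : μ * μ = -1) : val μ t (S1 [3, 1, 2, 0, 6, 5, 4]) =
    0 := by
  rw [val_eq μ t tab1_g0 (by decide +kernel)]
  simp [Finset.sum_range_succ]
  linear_combination ((t 1 + 2 * t 3 + 2 * t 6) + μ * (t 5 + 2 * t 6 + 2 * t 7)) * h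

theorem vi_g0g0 (t : ℕ → K) {μ : K} (h : μ * μ = -1) : val μ t (S2 [3, 1, 2, 0, 6, 5, 4] [3, 1, 2, 0, 6, 5, 4]) =
    2 * t 0 - 10 * t 1 - 2 * t 2 - 8 * t 3 + 32 * t 4 - 6 * t 5 - 8 * t 7 := by
  rw [val_eq μ t tab2_g0g0 (by decide +kernel)]
  simp [Finset.sum_range_succ]
  linear_combination ((18 * t 1 + 2 * t 2 + 24 * t 3 + 8 * t 5 + 24 * t 6 + 24 * t 7) + μ * (20 * t 4 + 16 * t 5 + 32 * t 6 + 32 * t 7)) * h

theorem vi_g0g2 (t : ℕ → K) {μ : K} (h : μ * μ = -1) : val μ t (S2 [3, 1, 2, 0, 6, 5, 4] [3, 0, 1, 4, 5, 6, 2]) =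
    μ * (4 * t 1 - 2 * t 2 - 8 * t 3 + 4 * t 4 - 6 * t 5 + 8 * t 7) := by
  rw [val_eq μ t tab2_g0g2 (by decide +kernel)]
  simp [Finset.sum_range_succ]
  linear_combination ((4 * t 1 + 2 * t 2 + 12 * t 3 + 28 * t 4 + 10 * t 5 + 12 * t 6 + 32 * t 7) + μ * (4 * t 1 + 8 * t 2 + 14 * t 3 + 24 * t 4 + 8 * t 5 + 26 * t 6 + 16 * t 7)) * h

theorem vm_1 (t : ℕ → K) : val (-1) t (S1 [0, 1, 2, 3, 4, 5, 6]) =
    t 0 + 5 * t 1 - 10 * t 4 + 4 * t 6 := by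
  rw [val_eq (-1) t tab1_1 (by decide +kernel)]
  simp [Finset.sum_range_succ]
  ring

theorem vm_g0 (t : ℕ → K) : val (-1) t (S1 [3, 1, 2, 0, 6, 5, 4]) =
    2 * t 1 + 4 * t 3 - 2 * t 5 - 4 * t 7 := by
  rw [val_eq (-1) t tab1_g0 (by decide +kernel)]
  simp [Finset.sum_range_succ]
  ring

theorem vm_g0g0 (t : ℕ → K) : val (-1) t (S2 [3, 1, 2, 0, 6, 5, 4] [3, 1, 2, 0, 6, 5, 4]) =
    2 * t 0 + 26 * t 1 + 2 * t 2 + 40 * t 3 - 8 * t 4 - 22 * t 5 - 16 * t 6 - 24 * t 7 := by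
  rw [val_eq (-1) t tab2_g0g0 (by decide +kernel)]
  simp [Finset.sum_range_succ]
  ring

theorem vm_g7 (t : ℕ → K) : val (-1) t (S1 [1, 0, 3, 2, 4, 5, 6]) =
    4 * t 2 - 4 * t 4 - 4 * t 5 + 4 * t 6 := by
  rw [val_eq (-1) t tab1_g7 (by decide +kernel)]
  simp [Finset.sum_range_succ]
  ring

theorem vm_g7g7 (t : ℕ → K) : val (-1) t (S2 [1, 0, 3, 2, 4, 5, 6] [1, 0, 3, 2, 4, 5, 6]) =
    4 * t 0 + 20 * t 1 + 64 * t 2 - 104 * t 4 - 64 * t 5 + 80 * t 6 := by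
  rw [val_eq (-1) t tab2_g7g7 (by decide +kernel)]
  simp [Finset.sum_range_succ]
  ring

theorem vm_g3 (t : ℕ → K) : val (-1) t (S1 [6, 0, 4, 3, 5, 2, 1]) =
    t 1 - 3 * t 4 + 2 * t 5 := by
  rw [val_eq (-1) t tab1_g3 (by decide +kernel)]
  simp [Finset.sum_range_succ]
  ring

theorem vm_g3g3 (t : ℕ → K) : val (-1) t (S2 [6, 0, 4, 3, 5, 2, 1] [6, 0, 4, 3, 5, 2, 1]) =
    t 0 + 3 * t 1 - 2 * t 2 - 8 * t 3 + 6 * t 5 := by
  rw [val_eq (-1) t tab2_g3g3 (by decide +kernel)]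
  simp [Finset.sum_range_succ]
  ring

end Val

section Rel

variable {K V : Type*} [Field K] [AddCommGroup V] [Module K V] [FiniteDimensional K V]
  {ρ : Representation K A7 V}

theorem rel_mul {t : ℕ → K} (ht : Tr ρ (t 0) (t 1) (t 2) (t 3) (t 4) (t 5) (t 6) (t 7)) {μ l : K} (hμ : μ ^ 4 = 1)
    (hl : l * μ = 1) (hW : finrank K ↥(es (ρ z) 1 ⊓ es (ρ c) l) = 1) (g h : A7) :
    val μ t (S1 (code (g : Perm (Fin 7)))) * val μ t (S1 (code (h : Perm (Fin 7)))) =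
      val μ t (S2 (code (g : Perm (Fin 7))) (code (h : Perm (Fin 7)))) := by
  rw [← tr_EE1 ht, ← tr_EE1 ht, ← tr_EE2 ht hμ]
  exact rank_one (EE_mem hμ hl) hW _ _

theorem rel_tr {t : ℕ → K} (ht : Tr ρ (t 0) (t 1) (t 2) (t 3) (t 4) (t 5) (t 6) (t 7)) {μ l : K} (hμ : μ ^ 4 = 1)
    (hl : l * μ = 1) (hW : finrank K ↥(es (ρ z) 1 ⊓ es (ρ c) l) = 1) :
    val μ t (S1 [0, 1, 2, 3, 4, 5, 6]) = 20 := by
  have h := tr_EE1 ht μ 1
  rw [map_one, mul_one, rank_one_trace (EE_mem hμ hl) hW (EE_scalar hl)] at h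
  rw [h]
  rfl

/-- The first two relations. -/
theorem rel_i {t : ℕ → K} (ht : Tr ρ (t 0) (t 1) (t 2) (t 3) (t 4) (t 5) (t 6) (t 7)) (h2 : (2 : K) ≠ 0)
    {i : K} (hi : i * i = -1) (hW : finrank K ↥(es (ρ z) 1 ⊓ es (ρ c) i) = 1) :
    (t 0 - 5 * t 1 - t 2 - 4 * t 3 + 16 * t 4 - 3 * t 5 - 4 * t 7 = 0) ∧
    (2 * t 1 - t 2 - 4 * t 3 + 2 * t 4 - 3 * t 5 + 4 * t 7 = 0) := by
  have hμ : (-i) ^ 4 = 1 := by linear_combination (i * i - 1) * hi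
  have hl : i * (-i) = 1 := by linear_combination - hi
  have hmi : (-i) * (-i) = -1 := by linear_combination hi
  have hi0 : -i ≠ 0 := by
    intro h
    rw [h] at hmi
    simp at hmi
  have r1 := rel_mul ht hμ hl hW g0 g0
  have r2 := rel_mul ht hμ hl hW g0 g2
  rw [code_g0, vi_g0 t hmi, vi_g0g0 t hmi] at r1
  rw [code_g0, code_g2, vi_g0 t hmi, vi_g0g2 t hmi] at r2
  constructor
  · apply (mul_eq_zero_iff_left h2).mp
    linear_combination - r1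
  · apply (mul_eq_zero_iff_left h2).mp
    apply (mul_eq_zero_iff_left hi0).mp
    linear_combination - r2

/-- The last three relations. -/
theorem rel_m {t : ℕ → K} (ht : Tr ρ (t 0) (t 1) (t 2) (t 3) (t 4) (t 5) (t 6) (t 7))
    (hW : finrank K ↥(es (ρ z) 1 ⊓ es (ρ c) (-1)) = 1) :
    ((4 * (t 2 - t 5 - t 4 + t 6)) ^ 2 = 16 * (4 * (t 2 - t 5 - t 4 + t 6)) + 80) ∧
    ((2 * t 1 - 2 * t 5 + 4 * t 3 - 4 * t 7) ^ 2 = 8 * (2 * t 1 - 2 * t 5 + 4 * t 3 - 4 * t 7) -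
      8 * (t 5 - t 3 - t 4 + t 6) + 2 * (t 2 + 2 * t 4 + t 5 - 8 * t 6 + 4 * t 7) + 40) ∧
    ((t 1 - 3 * t 4 + 2 * t 5) ^ 2 = -2 * (2 * t 1 - 2 * t 5 + 4 * t 3 - 4 * t 7) -
      2 * (-t 1 - t 2 + t 3 - 2 * t 4 - t 6 + 4 * t 7) - 2 * (t 5 - t 3 - t 4 + t 6) -
      4 * (t 2 - t 5 - t 4 + t 6) + 20) := by
  have hμ : (-1 : K) ^ 4 = 1 := by norm_num
  have hl : (-1 : K) * (-1) = 1 := by norm_num
  have r0 := rel_tr ht hμ hl hW
  have r1 := rel_mul ht hμ hl hW g7 g7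
  have r2 := rel_mul ht hμ hl hW g0 g0
  have r3 := rel_mul ht hμ hl hW g3 g3
  rw [vm_1] at r0
  rw [code_g7, vm_g7, vm_g7g7] at r1
  rw [code_g0, vm_g0, vm_g0g0] at r2
  rw [code_g3, vm_g3, vm_g3g3] at r3
  refine ⟨?_, ?_, ?_⟩
  · linear_combination r1 + 4 * r0
  · linear_combination r2 + 2 * r0
  · linear_combination r3 + r0

theorem enum' (g : A7) (m : Multiset ℕ) (hm : m = (g : Perm (Fin 7)).cycleType) :
    m = 0 ∨ m = {3} ∨ m = {2, 2} ∨ m = {5} ∨ m = {4, 2} ∨ m = {3, 3} ∨ m = {7} ∨ m = {3, 2, 2} := by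
  subst hm
  have hsgn : Perm.sign (g : Perm (Fin 7)) = 1 := Perm.mem_alternatingGroup.mp g.2
  have hfx := fx_code (g : Perm (Fin 7))
  have hev : Even ((g : Perm (Fin 7)).cycleType.sum + Multiset.card (g : Perm (Fin 7)).cycleType) := by
    rw [Perm.sign_of_cycleType] at hsgn
    by_contra hodd
    rw [Nat.not_even_iff_odd] at hodd
    rw [hodd.neg_one_pow] at hsgn
    exact absurd hsgn (by decide)
  exact enum _ (fun n hn => Perm.two_le_of_mem_cycleType hn) (by omega) hev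

theorem ct_z : (z : Perm (Fin 7)).cycleType = {5} := by
  have hfx := fx_code (z : Perm (Fin 7))
  rw [show fx (code (z : Perm (Fin 7))) = 2 by decide] at hfx
  rcases enum' z _ rfl with h | h | h | h | h | h | h | h
  all_goals first | exact h | (exfalso; rw [h] at hfx; revert hfx; decide)

theorem ct_c : (c : Perm (Fin 7)).cycleType = {4, 2} := by
  have hfx := fx_code (c : Perm (Fin 7))
  rw [show fx (code (c : Perm (Fin 7))) = 1 by decide] at hfx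
  have h3 := pow3_iff (c : Perm (Fin 7))
  rcases enum' c _ rfl with h | h | h | h | h | h | h | h
  all_goals first | exact h | (exfalso; rw [h] at hfx; revert hfx; decide) | skip
  exfalso
  rw [h] at h3
  exact absurd (h3.mpr (by decide)) (by decide)

end Rel

end Cfsg.Agent.H4.F4Kill

namespace Cfsg.Agent.H952.F4.Kill

open Cfsg.Agent.H952.F4 Cfsg.Agent.H4.F4Kill Module

variable {K V : Type*} [Field K] [IsAlgClosed K] [AddCommGroup V] [Module K V] [FiniteDimensional K V]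
  (ρ : Representation K ↥(alternatingGroup (Fin 7)) V)

/-- B2: the characters of `5:4` of order 2 and 4 occur once -/
theorem rel_one {t1 t2 t3 t33 t4 t6 t5 t7 : K} (ht : Tr ρ t1 t2 t3 t33 t4 t6 t5 t7) (h2 : (2 : K) ≠ 0)
    (h5 : (5 : K) ≠ 0) {i : K} (hi : i * i = -1)
    (hz : ∀ g : ↥(alternatingGroup (Fin 7)), (g : Equiv.Perm (Fin 7)).cycleType = {5} → ev (ρ g) 1 = 7)
    (hc : ∀ g : ↥(alternatingGroup (Fin 7)), (g : Equiv.Perm (Fin 7)).cycleType = {4, 2} →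
      ev (ρ g) (-1) = 6 ∧ ev (ρ g) i = 6)
    (hd : finrank K V = 27) :
    (t1 - 5 * t2 - t3 - 4 * t33 + 16 * t4 - 3 * t6 - 4 * t7 = 0) ∧
    (2 * t2 - t3 - 4 * t33 + 2 * t4 - 3 * t6 + 4 * t7 = 0) ∧
    ((4 * (t3 - t6 - t4 + t5)) ^ 2 = 16 * (4 * (t3 - t6 - t4 + t5)) + 80) ∧
    ((2 * t2 - 2 * t6 + 4 * t33 - 4 * t7) ^ 2 = 8 * (2 * t2 - 2 * t6 + 4 * t33 - 4 * t7) -
      8 * (t6 - t33 - t4 + t5) + 2 * (t3 + 2 * t4 + t6 - 8 * t5 + 4 * t7) + 40) ∧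
    ((t2 - 3 * t4 + 2 * t6) ^ 2 = -2 * (2 * t2 - 2 * t6 + 4 * t33 - 4 * t7) -
      2 * (-t2 - t3 + t33 - 2 * t4 - t5 + 4 * t7) - 2 * (t6 - t33 - t4 + t5) -
      4 * (t3 - t6 - t4 + t5) + 20) := by
  have hfr : ∀ {μ : K}, μ ^ 4 = 1 → ev (ρ c) μ = 6 → finrank K ↥(es (ρ z) 1 ⊓ es (ρ c) μ) = 1 := by
    intro μ hμ hev
    have h := Eig.frob ρ (m := 5) (by norm_num) (by exact_mod_cast h5) (z := z) (y := c) (a := 2) (k := 4)
      Cfsg.Agent.H4.F4Kill.z5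
      (by rw [cz, mul_assoc, mul_inv_cancel, mul_one])
      ((orderOf_eq_iff (by norm_num)).mpr ⟨by decide, fun n h1 h2 => by interval_cases n <;> decide⟩)
      (by norm_num) c4 hμ
    rw [hev, hz z ct_z, hd] at h
    omega
  have hm1 := hfr (μ := -1) (by norm_num) (hc c ct_c).1
  have hi1 := hfr (μ := i) (by linear_combination (i * i - 1) * hi) (hc c ct_c).2
  let t : ℕ → K := fun n => [t1, t2, t3, t33, t4, t6, t5, t7].getD n 0
  have ht' : Tr ρ (t 0) (t 1) (t 2) (t 3) (t 4) (t 5) (t 6) (t 7) := ht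
  obtain ⟨r1, r2⟩ := rel_i ht' h2 hi hi1
  obtain ⟨r3, r4, r5⟩ := rel_m ht' hm1
  exact ⟨r1, r2, r3, r4, r5⟩

end Cfsg.Agent.H952.F4.Kill
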