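import Cfsg.Agent.H4.DWrCent
import Cfsg.Agent.Omega.Quasithin.Row.EvenOf
import Cfsg.Agent.S0243

/-!
# The row `L₄(3)`: every member `L` of `ℒ_f(G, T)` has `L/O₂(L) ≅ A₅` (helper4)
-/

set_option autoImplicit false

namespace Cfsg.Agent.H4.RowL43

open Subgroup Cfsg Cfsg.Agent.H4.Lf Cfsg.Agent.H4.LfTrans Cfsg.Agent.H4.Small Cfsg.Agent.H4.Row128
open Cfsg.Agent.H4.DWrCent

universe u

/-- involutions of `A₆` have cycle type `2²` -/
theorem cycleType_alt {σ : Equiv.Perm (Fin 6)} (h2 : σ * σ = 1) (h1 : σ ≠ 1) (hs : Equiv.Perm.sign σ = 1) :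
    σ.cycleType = Multiset.replicate 2 2 := by
  have ho : orderOf σ = 2 := orderOf_eq_prime (by rw [pow_two]; exact h2) h1
  obtain ⟨n, hn⟩ := Equiv.Perm.cycleType_prime_order (σ := σ) (by rw [ho]; exact Nat.prime_two)
  rw [ho] at hn
  have h3 : σ.cycleType.sum ≤ 6 := by
    rw [Equiv.Perm.sum_cycleType]
    calc _ ≤ Fintype.card (Fin 6) := Finset.card_le_univ _
      _ = 6 := Fintype.card_fin 6
  have h4 := Equiv.Perm.sign_of_cycleType σ
  rw [hn, Multiset.sum_replicate, smul_eq_mul] at h3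
  rw [hs, hn, Multiset.sum_replicate, Multiset.card_replicate, smul_eq_mul] at h4
  have hn3 : n < 3 := by omega
  interval_cases n
  · exact absurd h4 (by decide)
  · exact hn
  · exact absurd h4 (by decide)

/-- **`A₆` has one class of involutions.** -/
theorem isConj_alt (σ τ : alternatingGroup (Fin 6)) (hσ : σ * σ = 1) (hσ1 : σ ≠ 1) (hτ : τ * τ = 1) (hτ1 : τ ≠ 1) :
    IsConj σ τ := by
  have a1 := cycleType_alt (σ := (σ : Equiv.Perm (Fin 6))) (congrArg Subtype.val hσ)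
    (fun h => hσ1 (Subtype.ext h)) σ.2
  have a2 := cycleType_alt (σ := (τ : Equiv.Perm (Fin 6))) (congrArg Subtype.val hτ)
    (fun h => hτ1 (Subtype.ext h)) τ.2
  refine alternatingGroup.isConj_of (Equiv.Perm.isConj_iff_cycleType_eq.2 (a1.trans a2.symm)) ?_
  rw [← Equiv.Perm.sum_cycleType, a1]
  decide

variable {G : Type u} [Group G]

/-- the number of fixed points on an abelian subgroup `U` under conjugation modulo `U` -/
theorem card_fix_eq {U : Subgroup G} {x y g v : G} (hc : ∀ a ∈ U, ∀ b ∈ U, a * b = b * a)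
    (hg : g ∈ normalizer (U : Set G)) (hv : v ∈ U) (h : g * x * g⁻¹ = y * v) :
    Nat.card {u : G // u ∈ U ∧ x * u = u * x} = Nat.card {u : G // u ∈ U ∧ y * u = u * y} := by
  have key : ∀ u ∈ U, x * u = u * x ↔ y * (g * u * g⁻¹) = g * u * g⁻¹ * y := by
    intro u hu
    have hu' : g * u * g⁻¹ ∈ U := (mem_normalizer_iff.1 hg u).1 hu
    have h1 := hc v hv _ hu'
    have h2 : x = g⁻¹ * (y * v) * g := by rw [← h]; group
    have h3 : x * u = g⁻¹ * (y * (g * u * g⁻¹) * v) * g := by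
      rw [h2]
      calc g⁻¹ * (y * v) * g * u = g⁻¹ * (y * (v * (g * u * g⁻¹))) * g := by group
        _ = g⁻¹ * (y * ((g * u * g⁻¹) * v)) * g := by rw [h1]
        _ = _ := by group
    have h4 : u * x = g⁻¹ * (g * u * g⁻¹ * y * v) * g := by
      rw [h2]; group
    rw [h3, h4, mul_left_inj, mul_right_inj, mul_left_inj]
  refine Nat.card_congr ⟨fun u => ⟨g * u.1 * g⁻¹, (mem_normalizer_iff.1 hg _).1 u.2.1, (key _ u.2.1).1 u.2.2⟩,
    fun u => ⟨g⁻¹ * u.1 * g, ?_, ?_⟩, ?_, ?_⟩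
  · rw [mem_normalizer_iff.1 hg]
    have : g * (g⁻¹ * u.1 * g) * g⁻¹ = u.1 := by group
    rw [this]; exact u.2.1
  · have h5 : g * (g⁻¹ * u.1 * g) * g⁻¹ = u.1 := by group
    have h6 : g⁻¹ * u.1 * g ∈ U := by
      rw [mem_normalizer_iff.1 hg, h5]; exact u.2.1
    rw [key _ h6, h5]; exact u.2.2
  · intro u; apply Subtype.ext; show g⁻¹ * (g * u.1 * g⁻¹) * g = u.1; group
  · intro u; apply Subtype.ext; show g * (g⁻¹ * u.1 * g) * g⁻¹ = u.1; group

/-- if `L/O₂(L) ≅ A₆`, the involutions of `L/O₂(L)` have the same number of fixed points on the elementary abelian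
subgroup `O₂(L)` -/
theorem fix_eq {L U : Subgroup G} (hU : (pCore 2 ↥L).map L.subtype = U) (hc : ∀ a ∈ U, ∀ b ∈ U, a * b = b * a)
    (e : (↥L ⧸ pCore 2 ↥L) ≃* alternatingGroup (Fin 6)) {x y : G} (hx : x ∈ L) (hy : y ∈ L) (hxU : x ∉ U)
    (hyU : y ∉ U) (hx2 : x * x ∈ U) (hy2 : y * y ∈ U) :
    Nat.card {u : G // u ∈ U ∧ x * u = u * x} = Nat.card {u : G // u ∈ U ∧ y * u = u * y} := by
  have hmem : ∀ (t : G) (ht : t ∈ L), (⟨t, ht⟩ : ↥L) ∈ pCore 2 ↥L ↔ t ∈ U := by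
    intro t ht
    rw [← hU]
    constructor
    · exact fun h => ⟨_, h, rfl⟩
    · rintro ⟨s, hs, h⟩
      have : s = ⟨t, ht⟩ := Subtype.ext h
      rwa [← this]
  set π := QuotientGroup.mk' (pCore 2 ↥L) with hπ
  have h1 : ∀ (t : G) (ht : t ∈ L), π ⟨t, ht⟩ = 1 ↔ t ∈ U := by
    intro t ht
    rw [← hmem t ht, hπ, QuotientGroup.mk'_apply, QuotientGroup.eq_one_iff]
  have hconj := isConj_alt (e (π ⟨x, hx⟩)) (e (π ⟨y, hy⟩))
    (by rw [← map_mul, ← map_mul, ← map_one e]; exact congrArg e ((h1 (x * x) (mul_mem hx hx)).2 hx2))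
    (fun h => hxU ((h1 x hx).1 (e.injective (h.trans (map_one e).symm))))
    (by rw [← map_mul, ← map_mul, ← map_one e]; exact congrArg e ((h1 (y * y) (mul_mem hy hy)).2 hy2))
    (fun h => hyU ((h1 y hy).1 (e.injective (h.trans (map_one e).symm))))
  obtain ⟨c, hc'⟩ := isConj_iff.1 hconj
  obtain ⟨c, rfl⟩ := e.surjective c
  rw [← map_inv, ← map_mul, ← map_mul] at hc'
  have h2 := e.injective hc'
  obtain ⟨⟨g, hg⟩, rfl⟩ := QuotientGroup.mk'_surjective _ c
  change π _ * π _ * (π _)⁻¹ = π _ at h2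
  rw [← map_inv, ← map_mul, ← map_mul] at h2
  have h3 := (QuotientGroup.mk'_eq_mk' (pCore 2 ↥L)).1 h2.symm
  obtain ⟨v, hv, h4⟩ := h3
  have hv' : (v : G) ∈ U := (hmem v v.2).1 hv
  have h5 : y * (v : G) = g * x * g⁻¹ := congrArg Subtype.val h4
  refine card_fix_eq hc ?_ hv' h5.symm
  rw [← hU]
  exact Cfsg.Agent.QTUniq.Local.le_normalizer_map_pCore 2 L hg

/-- a group of even characteristic with Sylow 2-subgroups `D₈ wr 2` -/
theorem not_alt [Finite G] (T : Sylow 2 G) {f w} (h : Cfsg.Agent.LFourA.Model.DWr (T : Subgroup G) 0 f w)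
    {L : Subgroup G} (hL : L ∈ calLf (T : Subgroup G)) (h7 : ¬ 7 ∣ Nat.card ↥L)
    (h360 : Nat.card (↥L ⧸ pCore 2 ↥L) = 360) (e : (↥L ⧸ pCore 2 ↥L) ≃* alternatingGroup (Fin 6)) : False := by
  have hS := selfCent h
  obtain ⟨h1, h2⟩ := core_eq T hS hL h7
  obtain ⟨-, hA⟩ := acts_inner hL
  have h16 := card_core T hS hL h7
  have hm := H5.Top.card_eq_mul (X := ↥L)
  rw [h360, h16] at hm
  have hT : (T : Subgroup G) ≤ L := by
    apply H5.Row64.le_of_dvd T hL.1
    rw [Cfsg.Agent.LFourA.Base.card_S h, hm]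
    norm_num
  have hUT : UU L ≤ (T : Subgroup G) := (uu_le_core L).trans (coreOf_le T hL.1)
  obtain ⟨x, hx, y, hy, hxU, hyU, hx2, hy2, hx8, hy4⟩ := exists_pair h hUT hA.comm hA.sq h2
  have h3 := fix_eq h1 hA.comm e (hT hx) (hT hy) hxU hyU hx2 hy2
  rw [hx8, hy4] at h3
  exact absurd h3 (by norm_num)

theorem card_psl {F : Type*} [Field F] [Fintype F] (hF : Fintype.card F = 3) :
    Nat.card (Matrix.ProjectiveSpecialLinearGroup (Fin 4) F) = 6065280 := by
  have hc := Cfsg.Agent.S0243.result (F := F) rfl 4 (by norm_num)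
  rw [hF, Fin.prod_univ_four] at hc
  norm_num at hc
  omega

/-- the row for the matrix group -/
theorem row_psl {F : Type*} [Field F] [Fintype F] (hF : Fintype.card F = 3)
    (hE : IsOfEvenCharacteristic (Matrix.ProjectiveSpecialLinearGroup (Fin 4) F)) :
    LfIso (Matrix.ProjectiveSpecialLinearGroup (Fin 4) F) (alternatingGroup (Fin 5)) 960 := by
  have hc := card_psl hF
  have : Finite (Matrix.ProjectiveSpecialLinearGroup (Fin 4) F) :=
    Nat.finite_of_card_ne_zero (by rw [hc]; norm_num)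
  refine LfIso.of hE fun T L hL => ?_
  obtain ⟨f, w, h⟩ := Cfsg.Agent.LFourA.SylPsl.exists_dwr_psl (F := F) (k := 0) (m := 1) (by rw [hF])
    (by rw [hF]; norm_num) (by decide) T
  have hLG : Nat.card ↥L ∣ Nat.card (Matrix.ProjectiveSpecialLinearGroup (Fin 4) F) :=
    Subgroup.card_subgroup_dvd_card L
  rw [hc] at hLG
  have h7 : ¬ 7 ∣ Nat.card ↥L := fun h7 => absurd (h7.trans hLG) (by norm_num)
  have h16 := card_core T (selfCent h) hL h7
  have hm := H5.Top.card_eq_mul (X := ↥L)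
  rcases row128 hE (by rw [hc]; norm_num) T (selfCent h) hL h7 with ⟨h1, ⟨e⟩⟩ | ⟨h1, ⟨e⟩⟩
  · rw [h1, h16] at hm
    have hs : IsSimpleGroup (↥L ⧸ pCore 2 ↥L) := e.isSimpleGroup
    exact ⟨le_normalizer T hL.1 (p := 5) (by norm_num) (by norm_num) (by rw [hm]; norm_num)
      (by rw [hc]; norm_num) hs, ⟨e⟩, hm⟩
  · exact (not_alt T h hL h7 h1 e).elim

/-- **The row `L₄(3)`.** -/
theorem l43 [Finite G] (hE : IsOfEvenCharacteristic G) {F : Type*} [Field F] [Fintype F] (hF : Fintype.card F = 3)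
    (e : G ≃* Matrix.ProjectiveSpecialLinearGroup (Fin 4) F) : LfIso G (alternatingGroup (Fin 5)) 960 := by
  have hfin : Finite (Matrix.ProjectiveSpecialLinearGroup (Fin 4) F) := Finite.of_equiv G e.toEquiv
  exact (row_psl hF (Omega.Quasithin.EvenOf.even_of_equiv e.symm hE)).congr e

end Cfsg.Agent.H4.RowL43
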