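import Cfsg.Agent.H4.Small
import Cfsg.Agent.NotResT.TwoRank
import Cfsg.Agent.Classification.PSLTwoEvenSylow
import Cfsg.Agent.LieRecognition.PSUThreeSylow
import Cfsg.Agent.ThreePrime.SzDataExists
import Cfsg.Agent.SevenLow.MTwelve
import Cfsg.Agent.FooteOdd.SporMEleven

/-!
# Rows with `ℒ_f(G, T) = ∅`: 2-rank two, Bender groups, small orders (helper4)

`psl2_odd`, `psl3_odd`, `psu3_odd`, `psl3_two`, `alt_five`, `alt_six`, `m11`, `m12`, `psl2_even`, `psu3_even`, `sz`,
`bender`.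
-/

set_option autoImplicit false

namespace Cfsg.Agent.H4.Rows1

open Cfsg Subgroup Matrix Cfsg.Agent.H4.Lf Cfsg.Agent.H4.LfTrans Cfsg.Agent.H4.Small

universe u

/-- the odd order theorem -/
abbrev OddOrd : Prop := ∀ (X : Type u) [Group X] [Finite X], Odd (Nat.card X) → Group.IsSolvable X

variable {G : Type u} [Group G] [Finite G]

theorem psl2_odd (F : Type) [Field F] [Fintype F] (hF : Odd (Fintype.card F))
    (e : G ≃* ProjectiveSpecialLinearGroup (Fin 2) F) : NoLf G := by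
  have : Finite (ProjectiveSpecialLinearGroup (Fin 2) F) := Finite.of_equiv G e.toEquiv
  exact (noLf_of_rank_two (Cfsg.Agent.NotResT.TwoRank.prank_psl_two hF)).congr e

theorem psl3_odd (F : Type) [Field F] [Fintype F] (hF : Odd (Fintype.card F))
    (e : G ≃* ProjectiveSpecialLinearGroup (Fin 3) F) : NoLf G := by
  have : Finite (ProjectiveSpecialLinearGroup (Fin 3) F) := Finite.of_equiv G e.toEquiv
  exact (noLf_of_rank_two (Cfsg.Agent.NotResT.TwoRank.prank_psl_three hF)).congr e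

theorem psu3_odd (F : Type) [Field F] [Fintype F] {q : ℕ} (hF : Fintype.card F = q ^ 2) (hq : Odd q)
    (e : G ≃* PSU 3 F q) : NoLf G := by
  have : Finite (PSU 3 F q) := Finite.of_equiv G e.toEquiv
  exact (noLf_of_rank_two (Cfsg.Agent.NotResT.TwoRank.prank_psu_three hF hq)).congr e

theorem alt_five (e : G ≃* alternatingGroup (Fin 5)) : NoLf G := by
  refine (noLf_of_sixteen ?_).congr e
  have h := nat_card_alternatingGroup (α := Fin 5)
  rw [h, Nat.card_fin, show Nat.factorial 5 = 120 by rfl]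
  norm_num

theorem alt_six (e : G ≃* alternatingGroup (Fin 6)) : NoLf G := by
  refine (noLf_of_sixteen ?_).congr e
  have h := nat_card_alternatingGroup (α := Fin 6)
  rw [h, Nat.card_fin, show Nat.factorial 6 = 720 by rfl]
  norm_num

theorem m11 (h : Spor.IsoM11 G) : NoLf G := by
  obtain ⟨e⟩ := h
  have hc := Cfsg.Agent.FooteOdd.SporMEleven.card
  have : Finite Spor.M11 := Nat.finite_of_card_ne_zero (by rw [hc]; norm_num)
  exact (noLf_of_card_sixteen (m := 495) (p := 3) (q := 5) (a := 2) (b := 1) (by rw [hc]) (by decide)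
    (by norm_num) (by norm_num) (by norm_num) (by norm_num)).congr e

theorem m12 (h : Spor.IsoM12 G) : NoLf G := by
  refine noLf_of_rank_three (Cfsg.Agent.SevenLow.MTwelve.low h) ?_
  obtain ⟨e⟩ := h
  rw [Nat.card_congr e.toEquiv, Cfsg.Agent.MTwelveType.SylowModel.card_M12]
  norm_num

theorem psl2_even (hFT : OddOrd.{u}) (hE : IsOfEvenCharacteristic G) (F : Type) [Field F] [Fintype F] [CharP F 2]
    (e : G ≃* ProjectiveSpecialLinearGroup (Fin 2) F) : NoLf G := by
  have : Fact (Nat.Prime 2) := ⟨Nat.prime_two⟩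
  obtain ⟨T⟩ : Nonempty (Sylow 2 G) := inferInstance
  have hT := Cfsg.Agent.Classification.PSLTwoEvenSylow.sylow_comm e T
  refine noLf_of_central hFT hE T fun x hx _ y hy => ?_
  exact congrArg Subtype.val (hT.is_comm.comm (⟨x, hx⟩ : ↥(T : Subgroup G)) ⟨y, hy⟩)

theorem psu3_even (hFT : OddOrd.{u}) (hE : IsOfEvenCharacteristic G) (F : Type) [Field F] [Fintype F] {n : ℕ}
    (hn : 1 ≤ n) (hF : Fintype.card F = (2 ^ n) ^ 2) (e : G ≃* PSU 3 F (2 ^ n)) : NoLf G := by
  have : Fact (Nat.Prime 2) := ⟨Nat.prime_two⟩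
  obtain ⟨T⟩ : Nonempty (Sylow 2 G) := inferInstance
  obtain ⟨_, σ, _, -, -, h3⟩ := Cfsg.Agent.LieRecognition.PSUThreeSylow.exists_heis_equiv F hn
    (by rw [Nat.card_eq_fintype_card]; exact hF)
  have : Finite (PSU 3 F (2 ^ n)) := Finite.of_equiv G e.toEquiv
  obtain ⟨f⟩ := h3 (mapSylow e T)
  have key : ∀ x ∈ (mapSylow e T : Subgroup (PSU 3 F (2 ^ n))), x * x = 1 →
      ∀ y ∈ (mapSylow e T : Subgroup (PSU 3 F (2 ^ n))), x * y = y * x := by
    intro x hx hxx y hy
    obtain ⟨a, ha⟩ := f.surjective ⟨x, hx⟩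
    obtain ⟨b, hb⟩ := f.surjective ⟨y, hy⟩
    have h4 : a * a = 1 := f.injective (by rw [map_mul, ha, map_one]; exact Subtype.ext hxx)
    have h5 := (Cfsg.Agent.LieRecognition.HermHeis.mul_self_eq_one_iff a).1 h4
    have h6 : a * b = b * a := by
      rw [Cfsg.Agent.LieRecognition.HermHeis.commute_iff, h5, zero_mul, map_zero, mul_zero]
    have h7 := congrArg f h6
    rw [map_mul, map_mul, ha, hb] at h7
    exact congrArg Subtype.val h7
  refine noLf_of_central hFT hE T fun x hx hxx y hy => ?_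
  apply e.injective
  rw [map_mul, map_mul]
  have h8 : ∀ z ∈ (T : Subgroup G), e z ∈ (mapSylow e T : Subgroup (PSU 3 F (2 ^ n))) := fun z hz => by
    rw [coe_mapSylow]; exact ⟨z, hz, rfl⟩
  exact key _ (h8 x hx) (by rw [← map_mul, hxx, map_one]) _ (h8 y hy)

theorem sz (hFT : OddOrd.{u}) (hE : IsOfEvenCharacteristic G) (h : Cfsg.Lie.IsoSuzuki G) : NoLf G := by
  have : Fact (Nat.Prime 2) := ⟨Nat.prime_two⟩
  obtain ⟨T⟩ : Nonempty (Sylow 2 G) := inferInstance
  obtain ⟨D, hD⟩ := Cfsg.Agent.ThreePrime.SzRel.exists_szData h T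
  exact noLf_of_central hFT hE T fun x hx hxx y hy => (hD.sq_iff x hx).1 hxx y hy

/-- **Bender groups** -/
theorem bender (hFT : OddOrd.{u}) (hE : IsOfEvenCharacteristic G) (h : IsBenderGroup G) : NoLf G := by
  rcases h with ⟨F, _, _, hF, -, ⟨e⟩⟩ | ⟨F, _, _, n, hn, hF, ⟨e⟩⟩ | h
  · exact psl2_even hFT hE F e
  · exact psu3_even hFT hE F (by omega) hF e
  · exact sz hFT hE h

end Cfsg.Agent.H4.Rows1
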