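import Cfsg.Agent.H4.Row128

/-!
# Groups in which the 7-elements have centralizers of odd order (helper4)

* `modEq_one`: a 2-subgroup normalized by an element of order `p` without fixed points has order `≡ 1 mod p`;
* `not_seven`: `7 ∤ |L|` for `L ∈ ℒ(G, T)` if `|G|₂ = 128`, `G` of even characteristic and the centralizers of involutions
  have order prime to 7.
-/

set_option autoImplicit false

namespace Cfsg.Agent.H4.SevenOdd

open Subgroup Cfsg.Agent.QTUniq.Local Cfsg.Agent.H4.Lf Cfsg.Agent.H4.Small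
open scoped commutatorElement

universe u

variable {G : Type u} [Group G]

/-- the centralizers of involutions have order prime to `p` -/
def InvPrime (G : Type u) [Group G] (p : ℕ) : Prop :=
  ∀ t : G, t * t = 1 → t ≠ 1 → ¬ p ∣ Nat.card ↥(centralizer ({t} : Set G))

/-- an element of order `p` centralizes no 2-element -/
theorem InvPrime.fix [Finite G] {p : ℕ} (h : InvPrime G p) {x : G} (hx : orderOf x = p) {S : Subgroup G}
    (hS : IsPGroup 2 S) {s : G} (hs : s ∈ S) (hc : x * s = s * x) : s = 1 := by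
  obtain ⟨n, hn⟩ := hS ⟨s, hs⟩
  have hn' : s ^ 2 ^ n = 1 := congrArg Subtype.val hn
  have key : ∀ n : ℕ, ∀ s : G, x * s = s * x → s ^ 2 ^ n = 1 → s = 1 := by
    intro n
    induction n with
    | zero => intro s _ h1; simpa using h1
    | succ n ih =>
      intro s hc h1
      have h2 : s * s = 1 := by
        apply ih (s * s)
        · calc x * (s * s) = x * s * s := by group
            _ = s * x * s := by rw [hc]
            _ = s * (x * s) := by group
            _ = s * (s * x) := by rw [hc]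
            _ = s * s * x := by group
        · rw [← pow_two, ← pow_mul, ← pow_succ']; exact h1
      by_contra h3
      apply h s h2 h3
      have h4 : x ∈ centralizer ({s} : Set G) := mem_centralizer_singleton_iff.2 hc
      rw [← hx, ← Subgroup.orderOf_mk x h4]
      exact orderOf_dvd_natCard _
  exact key n s hc hn'

/-- **fixed-point-free action** -/
theorem modEq_one [Finite G] {p : ℕ} (hp : p.Prime) {x : G} (hx : orderOf x = p) {S : Subgroup G}
    (hn : x ∈ normalizer (S : Set G)) (hfix : ∀ s ∈ S, x * s = s * x → s = 1) : Nat.card ↥S ≡ 1 [MOD p] := by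
  have hpf : Fact p.Prime := ⟨hp⟩
  have hZ : zpowers x ≤ normalizer (S : Set G) := zpowers_le.2 hn
  let φ : ↥(zpowers x) →* MulAut ↥S := act hZ
  let _ : MulAction ↥(zpowers x) ↥S := MulAction.compHom ↥S φ
  have hP : IsPGroup p ↥(zpowers x) := by
    apply IsPGroup.of_card (n := 1)
    rw [Nat.card_zpowers, hx, pow_one]
  have h1 := hP.card_modEq_card_fixedPoints ↥S
  have h2 : Nat.card ↥(MulAction.fixedPoints ↥(zpowers x) ↥S) = 1 := by
    rw [Nat.card_eq_one_iff_unique]
    refine ⟨⟨?_⟩, ⟨⟨1, fun g => map_one (φ g)⟩⟩⟩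
    have key : ∀ s : ↥(MulAction.fixedPoints ↥(zpowers x) ↥S), s.1 = 1 := by
      rintro ⟨s, hs⟩
      have h3 := hs ⟨x, mem_zpowers x⟩
      have h4 : x * (s : G) * x⁻¹ = s := congrArg Subtype.val h3
      apply Subtype.ext
      apply hfix s s.2
      calc x * (s : G) = x * s * x⁻¹ * x := by group
        _ = s * x := by rw [h4]
    intro a b
    exact Subtype.ext ((key a).trans (key b).symm)
  rwa [h2] at h1

theorem pow_mod_seven : ∀ n ≤ 5, 2 ^ n ≡ 1 [MOD 7] → n = 0 ∨ n = 3 := by decide

/-- **`7 ∤ |L|`** -/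
theorem not_seven [Finite G] (hFT : H5.Top.FT.{u}) (hE : IsOfEvenCharacteristic G) (h256 : ¬ 256 ∣ Nat.card G)
    (T : Sylow 2 G) (h128 : 128 ∣ Nat.card ↥(T : Subgroup G)) (hI : InvPrime G 7) {L : Subgroup G}
    (hL : L ∈ calL (T : Subgroup G)) : ¬ 7 ∣ Nat.card ↥L := by
  intro h7
  have h2f : Fact (Nat.Prime 2) := ⟨Nat.prime_two⟩
  have h7f : Fact (Nat.Prime 7) := ⟨by norm_num⟩
  obtain ⟨⟨x, hxL⟩, ho⟩ := exists_prime_orderOf_dvd_card' 7 h7
  rw [Subgroup.orderOf_mk] at ho
  set H : Subgroup G := L ⊔ (T : Subgroup G) with hH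
  have hLH : L ≤ H := le_sup_left
  have hTH : (T : Subgroup G) ≤ H := le_sup_right
  set R : Subgroup G := (pCore 2 ↥H).map H.subtype with hR
  have hRT : R ≤ (T : Subgroup G) := map_pCore_le_sylow T hTH
  have hRH : H ≤ normalizer (R : Set G) := le_normalizer_map_pCore 2 H
  have hRp : IsPGroup 2 R := T.isPGroup'.to_le hRT
  have hxR : x ∈ normalizer (R : Set G) := hRH (hLH hxL)
  -- invariant subgroups
  have hmod : ∀ S : Subgroup G, S ≤ R → x ∈ normalizer (S : Set G) → Nat.card ↥S ≡ 1 [MOD 7] := fun S hS hx =>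
    modEq_one (by norm_num) ho hx (fun s hs hc => hI.fix ho (hRp.to_le hS) hs hc)
  obtain ⟨n, hn⟩ := IsPGroup.iff_card.1 hRp
  have hRc : Nat.card ↥R = Nat.card ↥(pCore 2 ↥H) := by
    rw [hR]; exact Nat.card_congr ((pCore 2 ↥H).equivMapOfInjective _ H.subtype_injective).symm.toEquiv
  have hRne : n ≠ 0 := by
    rintro rfl
    rw [pow_zero] at hn
    exact oTwo_ne hL (Subgroup.eq_bot_of_card_eq _ (hRc.symm.trans hn))
  have hpn : (pCore 2 ↥H).Normal := Cfsg.Agent.Lib.Cores.pCore_normal 2
  -- `4 |R|` divides `|H|`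
  have h4 : 4 ∣ (pCore 2 ↥H).index := by
    have h5 : (pCore 2 ↥H).relIndex (L.subgroupOf H) ∣ (pCore 2 ↥H).index :=
      Subgroup.relIndex_dvd_index_of_normal _ _
    refine Dvd.dvd.trans ?_ h5
    set L' : Subgroup ↥H := L.subgroupOf H with hL'
    have hperf : ⁅(⊤ : Subgroup ↥L'), (⊤ : Subgroup ↥L')⁆ = ⊤ := by
      rw [← (Subgroup.map_injective L'.subtype_injective).eq_iff, Subgroup.map_commutator,
        ← MonoidHom.range_eq_map, Subgroup.range_subtype]
      rw [← (Subgroup.map_injective H.subtype_injective).eq_iff, Subgroup.map_commutator, hL',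
        Subgroup.subgroupOf_map_subtype, inf_eq_left.2 hLH]
      exact perfect hL
    have hnN : ((pCore 2 ↥H).subgroupOf L').Normal := inferInstance
    have hq := H5.Top.quot_perfect hperf ((pCore 2 ↥H).subgroupOf L')
    have hnt : Nontrivial (↥L' ⧸ (pCore 2 ↥H).subgroupOf L') := by
      rw [← not_subsingleton_iff_nontrivial]
      intro hs
      apply not_solvable hL
      have h6 : L' ≤ pCore 2 ↥H := by
        intro a ha
        have h7 : (⟨a, ha⟩ : ↥L') ∈ (pCore 2 ↥H).subgroupOf L' := by
          rw [← QuotientGroup.eq_one_iff]; exact Subsingleton.elim _ _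
        exact h7
      have h7 : L ≤ R := by
        have h8 := Subgroup.map_mono (f := H.subtype) h6
        rwa [hL', Subgroup.subgroupOf_map_subtype, inf_eq_left.2 hLH] at h8
      have h8 : IsPGroup 2 ↥L := hRp.to_le h7
      have := h8.isNilpotent
      infer_instance
    have h6 := H5.Top.four_dvd hFT hq
    rwa [← Subgroup.index_eq_card] at h6
  have hn5 : n ≤ 5 := by
    by_contra hn6
    apply h256
    have h5 := (pCore 2 ↥H).card_mul_index
    rw [← hRc, hn] at h5
    have h6 : 2 ^ 6 * 4 ∣ Nat.card ↥H := by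
      rw [← h5]; exact mul_dvd_mul (pow_dvd_pow 2 (by omega)) h4
    exact (by norm_num : 256 ∣ 2 ^ 6 * 4).trans (h6.trans (Subgroup.card_subgroup_dvd_card H))
  have hmR := hmod R le_rfl hxR
  rw [hn] at hmR
  rcases pow_mod_seven n hn5 hmR with h | h
  · exact hRne h
  subst h
  have hn8 : Nat.card ↥R = 8 := by rw [hn]; norm_num
  -- nontrivial invariant subgroups are `R`
  have hall : ∀ S : Subgroup G, S ≤ R → x ∈ normalizer (S : Set G) → S ≠ ⊥ → S = R := by
    intro S hS hx hne
    have h5 := hmod S hS hx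
    have h6 : Nat.card ↥S ∣ 8 := by rw [← hn8]; exact Subgroup.card_dvd_of_le hS
    have h7 : Nat.card ↥S ≠ 1 := fun h => hne (Subgroup.eq_bot_of_card_eq _ h)
    have h8 : Nat.card ↥S ≤ 8 := Nat.le_of_dvd (by norm_num) h6
    have h9 : Nat.card ↥S = 8 := by
      generalize Nat.card ↥S = m at h5 h6 h7 h8
      have h10 : m % 7 = 1 := h5
      omega
    exact Subgroup.eq_of_le_of_card_ge hS (by rw [h9, hn8])
  -- `R` is abelian
  have hRab : ∀ a ∈ R, ∀ b ∈ R, a * b = b * a := by
    have h5 : R ⊓ centralizer (R : Set G) = R := by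
      apply hall _ inf_le_left
      · have key : ∀ g ∈ normalizer (R : Set G), ∀ y ∈ R ⊓ centralizer (R : Set G),
            g * y * g⁻¹ ∈ R ⊓ centralizer (R : Set G) := by
          rintro g hg y ⟨hy1, hy2⟩
          refine ⟨(mem_normalizer_iff.1 hg y).1 hy1, mem_centralizer_iff.2 fun w hw => ?_⟩
          have hw' : g⁻¹ * w * g ∈ R := by
            have := (mem_normalizer_iff.1 (inv_mem hg) w).1 hw
            rwa [inv_inv] at this
          have h6 := mem_centralizer_iff.1 hy2 _ hw'
          calc w * (g * y * g⁻¹) = g * ((g⁻¹ * w * g) * y) * g⁻¹ := by group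
            _ = g * (y * (g⁻¹ * w * g)) * g⁻¹ := by rw [h6]
            _ = g * y * g⁻¹ * w := by group
        rw [mem_normalizer_iff]
        intro y
        refine ⟨key x hxR y, fun hy => ?_⟩
        have h6 := key x⁻¹ (inv_mem hxR) _ hy
        have h7 : x⁻¹ * (x * y * x⁻¹) * x⁻¹⁻¹ = y := by group
        rwa [h7] at h6
      · intro h6
        have hc : IsPGroup 2 R := hRp
        have hnt : Nontrivial ↥R := by
          rw [Subgroup.nontrivial_iff_ne_bot]
          intro hb
          rw [hb, Subgroup.card_bot] at hn8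
          omega
        have hcn := hc.center_nontrivial
        obtain ⟨⟨c, hc1⟩, hc2⟩ := exists_ne (1 : ↥(center ↥R))
        apply hc2
        apply Subtype.ext
        apply Subtype.ext
        have : (c : G) ∈ R ⊓ centralizer (R : Set G) := by
          refine ⟨c.2, mem_centralizer_iff.2 fun y hy => ?_⟩
          exact congrArg Subtype.val (mem_center_iff.1 hc1 ⟨y, hy⟩)
        rw [h6] at this
        exact this
    intro a ha b hb
    rw [← h5] at hb
    exact mem_centralizer_iff.1 hb.2 a ha
  have hRsq : ∀ a ∈ R, a * a = 1 := by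
    let W : Subgroup G :=
      { carrier := {a | a ∈ R ∧ a * a = 1}
        one_mem' := ⟨one_mem _, one_mul 1⟩
        mul_mem' := by
          rintro a b ⟨ha, ha2⟩ ⟨hb, hb2⟩
          refine ⟨mul_mem ha hb, ?_⟩
          calc a * b * (a * b) = a * (b * a) * b := by group
            _ = (a * a) * (b * b) := by rw [hRab b hb a ha]; group
            _ = 1 := by rw [ha2, hb2, one_mul]
        inv_mem' := by
          rintro a ⟨ha, ha2⟩
          exact ⟨inv_mem ha, by rw [← mul_inv_rev, ha2, inv_one]⟩ }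
    have h5 : W = R := by
      apply hall W (fun a ha => ha.1)
      · have key : ∀ g ∈ normalizer (R : Set G), ∀ a ∈ W, g * a * g⁻¹ ∈ W := by
          rintro g hg a ⟨ha, ha2⟩
          refine ⟨(mem_normalizer_iff.1 hg a).1 ha, ?_⟩
          calc g * a * g⁻¹ * (g * a * g⁻¹) = g * (a * a) * g⁻¹ := by group
            _ = 1 := by rw [ha2]; group
        rw [mem_normalizer_iff]
        intro y
        refine ⟨key x hxR y, fun hy => ?_⟩
        have h6 := key x⁻¹ (inv_mem hxR) _ hy
        have h7 : x⁻¹ * (x * y * x⁻¹) * x⁻¹⁻¹ = y := by group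
        rwa [h7] at h6
      · intro hb
        obtain ⟨⟨t, htR⟩, ht⟩ := exists_prime_orderOf_dvd_card' 2 (show 2 ∣ Nat.card ↥R by rw [hn8]; norm_num)
        rw [Subgroup.orderOf_mk] at ht
        have h6 : t ∈ W := ⟨htR, by rw [← pow_two, ← ht, pow_orderOf_eq_one]⟩
        rw [hb, Subgroup.mem_bot] at h6
        rw [h6, orderOf_one] at ht
        omega
    intro a ha
    rw [← h5] at ha
    exact ha.2
  -- the order of `T`
  have hTR : (T : Subgroup G) ≤ normalizer (R : Set G) := hTH.trans hRH
  have h168 : (centralizer (R : Set G)).relIndex (T : Subgroup G) ∣ 168 := by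
    rw [relIndex_eq hTR]
    have h5 := Cfsg.Agent.Transfer.ElemAbAut.card_mulAut (T := ↥R) 2 3
      (fun a b => Subtype.ext (hRab a a.2 b b.2)) (fun a => Subtype.ext (by
        show (a : G) ^ 2 = 1
        rw [pow_two]; exact hRsq a a.2)) (by rw [hn8]; norm_num)
    have h6 : Nat.card (MulAut ↥R) = 168 := by rw [h5]; simp [Fin.prod_univ_succ]
    rw [← h6]
    exact Subgroup.card_subgroup_dvd_card _
  have hdvdT : (centralizer (R : Set G)).relIndex (T : Subgroup G) ∣ Nat.card ↥(T : Subgroup G) :=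
    Subgroup.index_dvd_card _
  obtain ⟨k, hk⟩ := IsPGroup.iff_card.1 T.isPGroup'
  have h8 : (centralizer (R : Set G)).relIndex (T : Subgroup G) ∣ 8 := by
    rw [hk] at hdvdT
    obtain ⟨m, -, hm⟩ := (Nat.dvd_prime_pow Nat.prime_two).1 hdvdT
    rw [hm] at h168 ⊢
    have hm3 : m ≤ 3 := by
      by_contra h9
      have h10 : 2 ^ 4 ∣ 168 := (pow_dvd_pow 2 (by omega)).trans h168
      norm_num at h10
    exact (pow_dvd_pow 2 hm3).trans (by norm_num)
  have hCR : ((centralizer (R : Set G)).subgroupOf (T : Subgroup G)).map (T : Subgroup G).subtype ≤ R := by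
    rintro _ ⟨⟨c, hcT⟩, hc, rfl⟩
    have hcR : c ∈ centralizer (R : Set G) := hc
    have hch := charTwo_of_over hE T hTH (oTwo_ne hL)
    have h9 : (⟨c, hTH hcT⟩ : ↥H) ∈ pCore 2 ↥H := by
      apply hch
      rw [mem_centralizer_iff]
      intro y hy
      apply Subtype.ext
      exact mem_centralizer_iff.1 hcR (y : G) ⟨y, hy, rfl⟩
    exact ⟨_, h9, rfl⟩
  have h9 : Nat.card ↥((centralizer (R : Set G)).subgroupOf (T : Subgroup G)) ∣ 8 := by
    rw [← hn8, Nat.card_congr (((centralizer (R : Set G)).subgroupOf (T : Subgroup G)).equivMapOfInjective _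
      (T : Subgroup G).subtype_injective).toEquiv]
    exact Subgroup.card_dvd_of_le hCR
  have h10 := ((centralizer (R : Set G)).subgroupOf (T : Subgroup G)).card_mul_index
  have h11 : Nat.card ↥(T : Subgroup G) ∣ 8 * 8 := by
    rw [← h10]; exact mul_dvd_mul h9 h8
  exact absurd (h128.trans h11) (by norm_num)

end Cfsg.Agent.H4.SevenOdd
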