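import Cfsg.Agent.H4.LfTrans
import Cfsg.Agent.Transfer.ElemAbAut
import Cfsg.Agent.GH.C2SevenTop

/-!
# Perfect groups acting on elementary abelian 2-groups, small orders (helper4)

`Acts L U`: `L` is perfect, normalizes the elementary abelian 2-group `U` and does not centralize it.

* `Acts.not_dvd`: `|L : C_L(U)|` does not divide `p ^ a * q ^ b`; `Acts.dvd_gl`: it divides `|GL_n(2)|`;
* `Acts.eight_le`: `|U| ≥ 8`; `Acts.seven_dvd`: `|U| = 8` implies `7 ∣ |L : C_L(U)|`;
* `Acts.mul_dvd`: `|U| |L : C_L(U)|` divides `|L|` if `U ≤ L`;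
* `acts_module`, `acts_inner`: the two modules of a member of `ℒ_f(G, T)`;
* `noLf_of_rank_two`, `noLf_of_rank_three`: criteria for `NoLf`.
-/

set_option autoImplicit false

namespace Cfsg.Agent.H4.Small

open Subgroup Cfsg.Agent.H4.Lf Cfsg.Agent.H4.LfTrans Cfsg.Agent.QTUniq.Local
open scoped commutatorElement

universe u

variable {G : Type u} [Group G]

/-- `L` is perfect and acts nontrivially on the elementary abelian 2-group `U` -/
structure Acts (L U : Subgroup G) : Prop where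
  perf : ⁅L, L⁆ = L
  norm : L ≤ normalizer (U : Set G)
  comm : ∀ a ∈ U, ∀ b ∈ U, a * b = b * a
  sq : ∀ a ∈ U, a * a = 1
  ne : ¬ L ≤ centralizer (U : Set G)

/-- the action on `U` -/
def act {L U : Subgroup G} (h : L ≤ normalizer (U : Set G)) : ↥L →* MulAut ↥U :=
  U.normalizerMonoidHom.comp (Subgroup.inclusion h)

theorem act_ker {L U : Subgroup G} (h : L ≤ normalizer (U : Set G)) :
    (act h).ker = (centralizer (U : Set G)).subgroupOf L := by
  ext ⟨x, hx⟩
  rw [MonoidHom.mem_ker, mem_subgroupOf, mem_centralizer_iff]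
  constructor
  · intro h1 y hy
    have h2 := congrArg (fun g : MulAut ↥U => ((g ⟨y, hy⟩ : ↥U) : G)) h1
    have h3 : x * y * x⁻¹ = y := h2
    calc y * x = x * y * x⁻¹ * x := by rw [h3]
      _ = x * y := by group
  · intro h1
    ext ⟨y, hy⟩
    show x * y * x⁻¹ = y
    rw [← h1 y hy]; group

theorem relIndex_eq {L U : Subgroup G} (h : L ≤ normalizer (U : Set G)) :
    (centralizer (U : Set G)).relIndex L = Nat.card (act h).range := by
  rw [← Subgroup.index_ker, act_ker]; rfl

namespace Acts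

variable {L U : Subgroup G}

theorem not_solvable (h : Acts L U) : ¬ Group.IsSolvable ↥(act h.norm).range := by
  intro hs
  have hperf : ⁅(⊤ : Subgroup ↥L), (⊤ : Subgroup ↥L)⁆ = ⊤ := by
    rw [← (Subgroup.map_injective L.subtype_injective).eq_iff, Subgroup.map_commutator,
      ← MonoidHom.range_eq_map, Subgroup.range_subtype, h.perf]
  have h1 := Cfsg.Agent.TwoFusion.PerfCore.le_ker_of_perfect hperf (act h.norm) (by
    rwa [← MonoidHom.range_eq_map])
  rw [act_ker] at h1
  exact h.ne fun x hx => h1 (mem_top (⟨x, hx⟩ : ↥L))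

theorem not_dvd [Finite G] (h : Acts L U) {p q a b : ℕ} (hp : p.Prime) (hq : q.Prime) :
    ¬ (centralizer (U : Set G)).relIndex L ∣ p ^ a * q ^ b := by
  intro hd
  rw [relIndex_eq h.norm] at hd
  exact h.not_solvable (Cfsg.Agent.GH.C2SevenTop.solvable_of_dvd hp hq hd)

theorem isPGroup (h : Acts L U) : IsPGroup 2 ↥U := fun x => ⟨1, Subtype.ext (by
  show (x : G) ^ 2 ^ 1 = 1
  rw [pow_one, pow_two]; exact h.sq x x.2)⟩

theorem exists_card [Finite G] (h : Acts L U) : ∃ n : ℕ, Nat.card ↥U = 2 ^ n := by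
  have : Fact (Nat.Prime 2) := ⟨Nat.prime_two⟩
  exact IsPGroup.iff_card.1 h.isPGroup

theorem dvd_gl [Finite G] (h : Acts L U) {n : ℕ} (hn : Nat.card ↥U = 2 ^ n) :
    (centralizer (U : Set G)).relIndex L ∣ ∏ i : Fin n, (2 ^ n - 2 ^ (i : ℕ)) := by
  have : Fact (Nat.Prime 2) := ⟨Nat.prime_two⟩
  rw [relIndex_eq h.norm, ← Cfsg.Agent.Transfer.ElemAbAut.card_mulAut (T := ↥U) 2 n
    (fun x y => Subtype.ext (h.comm x x.2 y y.2)) (fun x => Subtype.ext (by
      show (x : G) ^ 2 = 1
      rw [pow_two]; exact h.sq x x.2)) hn]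
  exact Subgroup.card_subgroup_dvd_card _

/-- **`|U| ≥ 8`** -/
theorem eight_le [Finite G] (h : Acts L U) : 8 ≤ Nat.card ↥U := by
  obtain ⟨n, hn⟩ := h.exists_card
  have h1 := h.dvd_gl hn
  by_contra hlt
  rw [hn] at hlt
  have hn3 : n < 3 := by
    by_contra h3
    exact hlt (by calc 8 = 2 ^ 3 := rfl
      _ ≤ 2 ^ n := Nat.pow_le_pow_right (by norm_num) (by omega))
  interval_cases n
  · exact h.not_dvd (a := 0) (b := 0) Nat.prime_two Nat.prime_three (by simpa using h1)
  · exact h.not_dvd (a := 0) (b := 0) Nat.prime_two Nat.prime_three (by simpa using h1)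
  · exact h.not_dvd (a := 1) (b := 1) Nat.prime_two Nat.prime_three (by simpa [Fin.prod_univ_succ] using h1)

theorem dvd_of_eight [Finite G] (h : Acts L U) (hU : Nat.card ↥U = 8) :
    (centralizer (U : Set G)).relIndex L ∣ 168 := by
  have h1 := h.dvd_gl (n := 3) hU
  simpa [Fin.prod_univ_succ] using h1

theorem dvd_of_sixteen [Finite G] (h : Acts L U) (hU : Nat.card ↥U = 16) :
    (centralizer (U : Set G)).relIndex L ∣ 20160 := by
  have h1 := h.dvd_gl (n := 4) hU
  simpa [Fin.prod_univ_succ] using h1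

/-- **`|U| = 8` implies `|L : C_L(U)| = 168`** -/
theorem eq_of_eight [Finite G] (h : Acts L U) (hU : Nat.card ↥U = 8) :
    (centralizer (U : Set G)).relIndex L = 168 := by
  have h1 := h.dvd_of_eight hU
  rw [relIndex_eq h.norm] at h1 ⊢
  exact Cfsg.Agent.GH.C2SevenTop.card_of_dvd h.not_solvable h1

/-- **`|U| = 8` implies `7 ∣ |L|`** -/
theorem seven_dvd [Finite G] (h : Acts L U) (hU : Nat.card ↥U = 8) : 7 ∣ Nat.card ↥L := by
  have h1 : (centralizer (U : Set G)).relIndex L ∣ Nat.card ↥L := Subgroup.index_dvd_card _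
  rw [h.eq_of_eight hU] at h1
  exact (by norm_num : 7 ∣ 168).trans h1

/-- if `U ≤ L` then `|U| |L : C_L(U)|` divides `|L|` -/
theorem mul_dvd (h : Acts L U) (hUL : U ≤ L) :
    Nat.card ↥U * (centralizer (U : Set G)).relIndex L ∣ Nat.card ↥L := by
  have h1 : U.subgroupOf L ≤ (centralizer (U : Set G)).subgroupOf L := by
    intro x hx
    rw [mem_subgroupOf, mem_centralizer_iff]
    intro y hy
    exact h.comm y hy x hx
  have h2 := (centralizer (U : Set G)).subgroupOf L |>.card_mul_index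
  have h3 : Nat.card ↥U ∣ Nat.card ↥((centralizer (U : Set G)).subgroupOf L) := by
    have h4 := Subgroup.card_dvd_of_le h1
    rwa [Nat.card_congr (Subgroup.subgroupOfEquivOfLe hUL).toEquiv] at h4
  rw [← h2]
  exact Nat.mul_dvd_mul_right h3 _

end Acts

/-! ### members of `ℒ_f(G, T)` -/

/-- the module in `T` -/
theorem exists_acts [Finite G] (hE : IsOfEvenCharacteristic G) (T : Sylow 2 G) {L : Subgroup G}
    (hL : L ∈ calLf (T : Subgroup G)) :
    ∃ U : Subgroup G, U ≤ (T : Subgroup G) ∧ (T : Subgroup G) ≤ normalizer (U : Set G) ∧ Acts L U := by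
  obtain ⟨U, h1, h2, h3, h4, h5⟩ := exists_module hE T hL
  exact ⟨U, h1, le_sup_right.trans h2, perfect hL.1, le_sup_left.trans h2, h3, h4, h5⟩

/-- the module `Ω₁(Z(O_2(L)))` -/
theorem acts_inner {T L : Subgroup G} (hL : L ∈ calLf T) :
    UU L ≤ L ∧ Acts L (UU L) := by
  have h0 : (pCore 2 ↥L).map L.subtype ≤ L := map_subtype_le _
  refine ⟨fun x hx => h0 (mem_omega.1 hx).1, perfect hL.1,
    (le_normalizer_map_pCore 2 L).trans (normalizer_le_omega _), ?_, ?_, ?_⟩
  · intro a ha b hb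
    exact (mem_omega.1 hb).2.1 a (mem_omega.1 ha).1
  · intro a ha
    exact (mem_omega.1 ha).2.2
  · intro h
    apply hL.2.2
    show ⁅UU L, L⁆ = ⊥
    rw [commutator_comm, commutator_eq_bot_iff_le_centralizer]
    exact h

/-- **2-rank at most two**: `ℒ_f(G, T)` is empty. -/
theorem noLf_of_rank_two [Finite G] (h : PRankLE 2 2 G) : NoLf G := by
  refine NoLf.of_forall fun T L hL => ?_
  obtain ⟨-, hA⟩ := acts_inner hL
  have h1 := h (UU L) ⟨⟨fun a b => Subtype.ext (hA.comm a a.2 b b.2)⟩⟩ (fun a ha => by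
    rw [pow_two]; exact hA.sq a ha)
  have h2 := hA.eight_le
  omega

/-- **2-rank at most three and order prime to 7**: `ℒ_f(G, T)` is empty. -/
theorem noLf_of_rank_three [Finite G] (h : PRankLE 2 3 G) (h7 : ¬ 7 ∣ Nat.card G) : NoLf G := by
  refine NoLf.of_forall fun T L hL => ?_
  obtain ⟨-, hA⟩ := acts_inner hL
  have h1 := h (UU L) ⟨⟨fun a b => Subtype.ext (hA.comm a a.2 b b.2)⟩⟩ (fun a ha => by
    rw [pow_two]; exact hA.sq a ha)
  have h2 := hA.eight_le
  have h3 := hA.seven_dvd (by omega)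
  exact h7 (h3.trans (Subgroup.card_subgroup_dvd_card L))

/-- `ℒ_f(G, T)` is empty if the elementary abelian normal subgroups of one Sylow 2-subgroup have order at most 4. -/
theorem noLf_of_normal [Finite G] (hE : IsOfEvenCharacteristic G) (T : Sylow 2 G)
    (h : ∀ U : Subgroup G, U ≤ (T : Subgroup G) → (T : Subgroup G) ≤ normalizer (U : Set G) →
      (∀ a ∈ U, ∀ b ∈ U, a * b = b * a) → (∀ a ∈ U, a * a = 1) → Nat.card ↥U < 8) : NoLf G := by
  refine NoLf.of_one T fun L hL => ?_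
  obtain ⟨U, h1, h2, h3⟩ := exists_acts hE T hL
  exact absurd h3.eight_le (not_le.2 (h U h1 h2 h3.comm h3.sq))

/-- `ℒ_f(G, T)` is empty if `16` does not divide the order of `G`. -/
theorem noLf_of_sixteen [Finite G] (h : ¬ 16 ∣ Nat.card G) : NoLf G := by
  refine NoLf.of_forall fun T L hL => ?_
  obtain ⟨hAL, hA⟩ := acts_inner hL
  have h1 := hA.mul_dvd hAL
  have h2 := hA.eight_le
  obtain ⟨n, hn⟩ := hA.exists_card
  have hLG : Nat.card ↥L ∣ Nat.card G := Subgroup.card_subgroup_dvd_card L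
  by_cases hn3 : n = 3
  · subst hn3
    rw [hA.eq_of_eight hn, hn] at h1
    exact h (((by norm_num : 16 ∣ 2 ^ 3 * 168).trans h1).trans hLG)
  · have hn4 : 4 ≤ n := by
      by_contra h4
      rw [hn] at h2
      have : n ≤ 2 := by omega
      have h5 : 2 ^ n ≤ 2 ^ 2 := Nat.pow_le_pow_right (by norm_num) this
      omega
    refine h ((Dvd.dvd.trans ?_ ((Dvd.intro _ rfl).trans h1)).trans hLG)
    rw [hn]
    exact (show (16 : ℕ) = 2 ^ 4 by norm_num) ▸ Nat.pow_dvd_pow 2 hn4

/-- the case `|G|₂ = 16`: a nonsolvable group of order dividing `m`, `|G| = 16 m`, is needed -/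
theorem noLf_of_card_sixteen [Finite G] {m p q a b : ℕ} (hG : Nat.card G = 16 * m) (hm : Odd m)
    (hp : p.Prime) (hq : q.Prime) (h7 : ¬ 7 ∣ m) (h : Nat.gcd m 20160 ∣ p ^ a * q ^ b) : NoLf G := by
  refine NoLf.of_forall fun T L hL => ?_
  obtain ⟨hAL, hA⟩ := acts_inner hL
  have h1 := hA.mul_dvd hAL
  have h2 := hA.eight_le
  obtain ⟨n, hn⟩ := hA.exists_card
  have hLG : Nat.card ↥L ∣ Nat.card G := Subgroup.card_subgroup_dvd_card L
  have h3 := h1.trans hLG
  rw [hn] at h2 h3
  have hn3 : 3 ≤ n := by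
    by_contra h4
    have : n ≤ 2 := by omega
    have h5 : 2 ^ n ≤ 2 ^ 2 := Nat.pow_le_pow_right (by norm_num) this
    omega
  have hn4 : n ≤ 4 := by
    by_contra h4
    have h5 : 2 ^ 5 ∣ 16 * m := by
      rw [← hG]
      exact ((Nat.pow_dvd_pow 2 (by omega)).trans (Dvd.intro _ rfl)).trans h3
    have h6 : 2 ∣ m := by
      rw [show (2 : ℕ) ^ 5 = 16 * 2 by norm_num] at h5
      exact (Nat.mul_dvd_mul_iff_left (by norm_num)).1 h5
    exact (Nat.not_even_iff_odd.2 hm) (even_iff_two_dvd.2 h6)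
  obtain rfl | rfl : n = 3 ∨ n = 4 := by omega
  · rw [hA.eq_of_eight hn, hG] at h3
    have h4 : 7 ∣ 16 * m := (by norm_num : 7 ∣ 2 ^ 3 * 168).trans h3
    rcases (Nat.Prime.dvd_mul (by norm_num)).1 h4 with h5 | h5
    · norm_num at h5
    · exact h7 h5
  · have h4 := hA.dvd_of_sixteen hn
    rw [hG] at h3
    have h5 : (centralizer (UU L : Set G)).relIndex L ∣ m :=
      (Nat.mul_dvd_mul_iff_left (by norm_num : 0 < 16)).1 h3
    exact hA.not_dvd hp hq ((Nat.dvd_gcd h5 h4).trans h)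

/-! ### the Sylow subgroups of members of `ℒ(G, T)` -/

/-- `T ∩ L` is a Sylow 2-subgroup of `L` -/
theorem not_two_dvd_index [Finite G] (T : Sylow 2 G) {L : Subgroup G} (hL : L ∈ calL (T : Subgroup G)) :
    ¬ 2 ∣ ((T : Subgroup G).subgroupOf L).index := by
  have : Fact (Nat.Prime 2) := ⟨Nat.prime_two⟩
  intro h
  have h5 := Cfsg.Agent.SignalizersComponents.PCompCore.relIndex_dvd_index_of_subnormal
    ((T : Subgroup G).subgroupOf (L ⊔ (T : Subgroup G))) (subnormal hL)
  rw [Subgroup.relIndex_subgroupOf le_sup_left] at h5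
  have h6 : ((T : Subgroup G).subgroupOf (L ⊔ (T : Subgroup G))).index ∣ (T : Subgroup G).index :=
    Subgroup.relIndex_dvd_index_of_le le_sup_right
  exact T.not_dvd_index ((h.trans h5).trans h6)

/-- **Central involutions**: if the involutions of the Sylow 2-subgroup `T` are central in `T`, then `ℒ_f(G, T)` is
empty (odd order theorem). -/
theorem noLf_of_central [Finite G] (hFT : ∀ (X : Type u) [Group X] [Finite X], Odd (Nat.card X) → Group.IsSolvable X)
    (hE : IsOfEvenCharacteristic G) (T : Sylow 2 G)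
    (h : ∀ x ∈ (T : Subgroup G), x * x = 1 → ∀ y ∈ (T : Subgroup G), x * y = y * x) : NoLf G := by
  refine NoLf.of_one T fun L hL => ?_
  obtain ⟨U, h1, h2, h3⟩ := exists_acts hE T hL
  apply h3.not_solvable
  have h4 : (T : Subgroup G).subgroupOf L ≤ (centralizer (U : Set G)).subgroupOf L := by
    intro x hx
    rw [mem_subgroupOf, mem_centralizer_iff]
    intro y hy
    exact h y (h1 hy) (h3.sq y hy) x hx
  have h5 : ¬ 2 ∣ (centralizer (U : Set G)).relIndex L := fun h6 =>
    not_two_dvd_index T hL.1 (h6.trans (Subgroup.index_dvd_of_le h4))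
  rw [relIndex_eq h3.norm] at h5
  have h6 : Odd (Nat.card ↥(act h3.norm).range) := by
    rw [← Nat.not_even_iff_odd, even_iff_two_dvd]; exact h5
  exact hFT _ h6

end Cfsg.Agent.H4.Small
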